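import Groth.Agent.L25.Locus.Transporter
import Groth.Agent.L25.FreeGraph
import Groth.Agent.L25.Cocycle.Subgroups

/-!
# Transporters and normalizers of subgroups of multiplicative type
-/

set_option autoImplicit false
universe u

open CategoryTheory CategoryTheory.Limits MonoidalCategory CartesianMonoidalCategory MonObj GrpObj
open AlgebraicGeometry

set_option backward.isDefEq.respectTransparency.types false

noncomputable section

namespace Groth.L25.Locus

variable {S : Scheme.{u}}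

theorem lfp_of_multTypeFT {H : Over S} [GrpObj H] (hH : SGA3x.IsMultTypeFT H) :
    LocallyOfFinitePresentation H.hom := by
  obtain ⟨S', f, hflat, hsurj, hqc, hloc⟩ := hH
  refine FpqcLocal.of_fpqc (P := @LocallyOfFinitePresentation) H.hom (𝟙 S) f hqc fun s => ?_
  obtain ⟨W, hsW, M, instM, hfg, ⟨e⟩⟩ := hloc s
  refine ⟨W, hsW, FpqcLocal.bc_comp H.hom (pullback.snd (𝟙 S) (W.ι ≫ f)) (W.ι ≫ f) _
    (by rw [← pullback.condition, Category.comp_id]) ?_⟩
  have : IsIso e.hom.hom.hom :=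
    ⟨e.inv.hom.hom, congr($(e.hom_inv_id).hom.hom), congr($(e.inv_hom_id).hom.hom)⟩
  have : IsIso e.hom.hom.hom.left := inferInstanceAs (IsIso ((Over.forget _).map e.hom.hom.hom))
  have : Monoid.FG (Multiplicative M) :=
    AddMonoid.fg_iff_mul_fg.1 (AddGroup.fg_iff_addMonoid_fg.1 hfg)
  have h1 : LocallyOfFinitePresentation (Red.diag (ULift.{u} ℤ) M).hom := by
    show LocallyOfFinitePresentation (Spec.map (CommRingCat.ofHom
      (algebraMap (ULift.{u} ℤ) (MonoidAlgebra (ULift.{u} ℤ) (Multiplicative M)))))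
    rw [HasRingHomProperty.Spec_iff (P := @LocallyOfFinitePresentation), CommRingCat.hom_ofHom]
    have : IsNoetherianRing (ULift.{u} ℤ) := isNoetherianRing_of_ringEquiv ℤ ULift.ringEquiv.symm
    exact RingHom.FinitePresentation.of_finiteType.1 (RingHom.finiteType_algebraMap.2 inferInstance)
  have h2 : LocallyOfFinitePresentation (Red.DS W.toScheme M).hom := MorphismProperty.pullback_snd _ _ h1
  show LocallyOfFinitePresentation (Red.bc (W.ι ≫ f) H).hom
  rw [← Over.w e.hom.hom.hom]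
  infer_instance

theorem toBase_map {P : Scheme.{u}} (j : P ⟶ S) {X X' : Over S} {Y : Over P} (a : Y ⟶ Red.bc j X) (f : X ⟶ X') :
    NilAction.toBase j (a ≫ (Over.pullback j).map f) = NilAction.toBase j a ≫ f := by
  conv_lhs => rw [← NilAction.ofBase_toBase j a]
  rw [NilAction.ofBase_comp, NilAction.toBase_ofBase]

variable {H G : Over S} [GrpObj H] [GrpObj G]

/-- translation through a homomorphism -/
def transAction (i : H ⟶ G) [IsMonHom i] : AlgGrp.Action H G where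
  act := (fst H G ≫ i) * snd H G
  one_act := by
    rw [MonObj.comp_mul, ← Category.assoc, whiskerRight_fst, whiskerRight_snd, Category.assoc,
      IsMonHom.one_hom, leftUnitor_hom,
      show fst (𝟙_ (Over S)) G ≫ η[G] = 1 by rw [Hom.one_def, toUnit_unique (fst (𝟙_ (Over S)) G) (toUnit _)],
      _root_.one_mul]
  mul_act := by
    simp only [MonObj.comp_mul, MonObj.mul_eq_mul, whiskerRight_fst_assoc, whiskerRight_snd,
      whiskerLeft_fst_assoc, whiskerLeft_snd, associator_hom_fst_assoc, associator_hom_snd_fst_assoc,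
      associator_hom_snd_snd, MonObj.mul_comp]
    exact mul_assoc _ _ _

/-- a monomorphism from a group of multiplicative type into an affine group is a closed immersion -/
theorem isClosedImmersion_of_mono [IsAffineHom G.hom]
    (hH : TwC.Locally S TwC.Topology.fpqc (fun S' f => ∃ (M : Type) (_ : AddCommGroup M),
      Nonempty (Grp.mk (Red.bc f H) ≅ Grp.mk (Red.DS S' M))))
    (i : H ⟶ G) [IsMonHom i] [Mono i] : IsClosedImmersion i.left := by
  have hfree : ∀ (Y : Over S) (g : Y ⟶ H) (x : Y ⟶ G), lift g x ≫ (transAction i).act = x → g = 1 := by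
    intro Y g x h
    simp only [transAction, MonObj.comp_mul, lift_fst_assoc, lift_snd] at h
    rw [← cancel_mono i, MonObj.one_comp]
    exact mul_eq_right.1 h
  have h1 := FreeGraph.isClosedImmersion_orbit (transAction i)
    (FreeGraph.isClosedImmersion_graph (transAction i) hH hfree) (1 : 𝟙_ (Over S) ⟶ G)
  have e : (transAction i).orbitMap (1 : 𝟙_ (Over S) ⟶ G) = i := by
    simp only [AlgGrp.Action.orbitMap, transAction, MonObj.comp_mul, lift_fst_assoc, lift_snd, MonObj.comp_one,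
      Category.id_comp, _root_.mul_one]
  rwa [e] at h1

variable {H₁ H₂ W : Over S} [GrpObj H₁] [GrpObj H₂]

/-- `x` conjugates `H₁` into `H₂` -/
def Sends (i₁ : H₁ ⟶ G) (i₂ : H₂ ⟶ G) (T' : Over S) (x : T' ⟶ G) : Prop :=
  ∀ (X' : Over S) (t : X' ⟶ T') (h : X' ⟶ H₁), ∃ h' : X' ⟶ H₂, (t ≫ x) * (h ≫ i₁) * (t ≫ x)⁻¹ = h' ≫ i₂

/-- `x⁻¹` conjugates `H₂` into `H₁` -/
def SendsBack (i₁ : H₁ ⟶ G) (i₂ : H₂ ⟶ G) (T' : Over S) (x : T' ⟶ G) : Prop :=
  ∀ (X' : Over S) (t : X' ⟶ T') (h : X' ⟶ H₂), ∃ h' : X' ⟶ H₁, (t ≫ x)⁻¹ * (h ≫ i₂) * (t ≫ x) = h' ≫ i₁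

variable (hH₁ : TwC.Locally S TwC.Topology.fpqc (fun S' f => ∃ (M : Type) (_ : AddCommGroup M),
  Nonempty (Grp.mk (Red.bc f H₁) ≅ Grp.mk (Red.DS S' M))))
  (hH₂ : TwC.Locally S TwC.Topology.fpqc (fun S' f => ∃ (M : Type) (_ : AddCommGroup M),
  Nonempty (Grp.mk (Red.bc f H₂) ≅ Grp.mk (Red.DS S' M))))

include hH₁ hH₂ in
/-- the transporter of subgroups -/
theorem exists_subgroupTransporter (i₁ : H₁ ⟶ G) (i₂ : H₂ ⟶ G) [IsClosedImmersion i₁.left] [IsClosedImmersion i₂.left] :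
    ∃ (W : Over S) (i : W ⟶ G), IsClosedImmersion i.left ∧
      (LocallyOfFinitePresentation i₁.left → LocallyOfFinitePresentation i₂.left →
        LocallyOfFinitePresentation i.left) ∧
      ∀ (T' : Over S) (x : T' ⟶ G), (∃ w, w ≫ i = x) ↔ Sends i₁ i₂ T' x ∧ SendsBack i₁ i₂ T' x := by
  obtain ⟨W₁, j₁, hj₁, hl₁, hW₁⟩ := exists_transporter_into hH₁ i₁ i₂
  obtain ⟨W, j₂, hj₂, hl₂, hW₂⟩ := exists_representable hH₂
    ((fst W₁ H₂ ≫ j₁)⁻¹ * (snd W₁ H₂ ≫ i₂) * (fst W₁ H₂ ≫ j₁)) i₁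
  refine ⟨W, j₂ ≫ j₁, ?_, fun a b => ?_, fun T' x => ?_⟩
  · exact inferInstanceAs (IsClosedImmersion (j₂.left ≫ j₁.left))
  · have := hl₁ b
    have := hl₂ a
    exact inferInstanceAs (LocallyOfFinitePresentation (j₂.left ≫ j₁.left))
  constructor
  · rintro ⟨w, rfl⟩
    refine ⟨(hW₁ _ _).1 ⟨w ≫ j₂, Category.assoc _ _ _⟩, fun X' t h => ?_⟩
    obtain ⟨y, hy⟩ := (hW₂ T' (w ≫ j₂)).2 ⟨w, rfl⟩ X' t h
    refine ⟨y, ?_⟩
    rw [hy]
    simp only [MonObj.comp_mul, GrpObj.comp_inv, lift_fst_assoc, lift_snd_assoc, Category.assoc]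
  · rintro ⟨h1, h2⟩
    obtain ⟨x₁, rfl⟩ := (hW₁ T' x).2 h1
    obtain ⟨w, hw⟩ := (hW₂ T' x₁).1 fun X' t h => by
      obtain ⟨h', e⟩ := h2 X' t h
      refine ⟨h', ?_⟩
      simp only [MonObj.comp_mul, GrpObj.comp_inv, lift_fst_assoc, lift_snd_assoc, Category.assoc]
      exact e.symm
    exact ⟨w, by rw [← Category.assoc, hw]⟩

include hH₁ hH₂ in
theorem smooth_subgroupTransporter [Smooth G.hom] (i₁ : H₁ ⟶ G) (i₂ : H₂ ⟶ G) [IsMonHom i₁] [IsMonHom i₂]
    [Mono i₁] [Mono i₂] (i : W ⟶ G) [Mono i] [LocallyOfFinitePresentation i.left]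
    (hW : ∀ (T' : Over S) (x : T' ⟶ G), (∃ w, w ≫ i = x) ↔ Sends i₁ i₂ T' x ∧ SendsBack i₁ i₂ T' x) :
    Smooth W.hom := by
  have : LocallyOfFinitePresentation W.hom := by rw [← Over.w i]; infer_instance
  refine smooth_of_formallySmooth _ fun B _ I hI a₀ b hab => ?_
  let g₀s : Over.mk ((Cocycle.Z I).hom ≫ b) ⟶ W := Over.homMk a₀ hab.symm
  have hG' : Smooth (Red.bc b G).hom := MorphismProperty.pullback_snd G.hom b ‹_›
  let g₀ : Cocycle.Z I ⟶ Red.bc b G := NilAction.ofBase b (g₀s ≫ i)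
  obtain ⟨htr₁, htr₂⟩ := (hW _ (g₀s ≫ i)).1 ⟨g₀s, rfl⟩
  have : Mono ((Over.pullback b).map i₁) := inferInstance
  have : Mono ((Over.pullback b).map i₂) := inferInstance
  obtain ⟨g, hg, φ, hφ⟩ := Cocycle.exists_conjBy_lift (locally_bc hH₁ b) (locally_bc hH₂ b) (J := I) ⟨2, hI⟩
    ((Over.pullback b).map i₁) ((Over.pullback b).map i₂) g₀ (fun Y q => ⟨fun h => by
      obtain ⟨h', e⟩ := htr₁ _ ((Over.homMk q.left (by
        show q.left ≫ (Cocycle.Z I).hom ≫ b = Y.hom ≫ b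
        rw [← Category.assoc, Over.w q]) : Over.mk (Y.hom ≫ b) ⟶ Over.mk ((Cocycle.Z I).hom ≫ b))) (NilAction.toBase b h)
      refine ⟨NilAction.ofBase b h', ?_⟩
      rw [← NilAction.ofBase_toBase b h, comp_ofBase, NilAction.ofBase_comp, NilAction.ofBase_comp,
        ← ofBase_inv, ← ofBase_mul, ← ofBase_mul, e], fun h => by
      obtain ⟨h', e⟩ := htr₂ _ ((Over.homMk q.left (by
        show q.left ≫ (Cocycle.Z I).hom ≫ b = Y.hom ≫ b
        rw [← Category.assoc, Over.w q]) : Over.mk (Y.hom ≫ b) ⟶ Over.mk ((Cocycle.Z I).hom ≫ b))) (NilAction.toBase b h)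
      refine ⟨NilAction.ofBase b h', ?_⟩
      rw [← NilAction.ofBase_toBase b h, comp_ofBase, NilAction.ofBase_comp, NilAction.ofBase_comp,
        ← ofBase_inv, ← ofBase_mul, ← ofBase_mul, e]⟩)
  let c : Over.mk b ⟶ Over.mk ((𝟙_ (Over (Spec (CommRingCat.of B)))).hom ≫ b) :=
    Over.homMk (𝟙 _) (by
      show 𝟙 _ ≫ 𝟙 _ ≫ b = b
      rw [Category.id_comp, Category.id_comp])
  let x : Over.mk b ⟶ G := c ≫ NilAction.toBase b g
  have key : ∀ (X' : Over S) (t : X' ⟶ Over.mk b), ∃ (Y : Over (Spec (CommRingCat.of B)))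
      (e : Over.mk (Y.hom ≫ b) ⟶ X'), IsIso e ∧ (e ≫ t) ≫ x = NilAction.toBase b (toUnit Y ≫ g) := by
    intro X' t
    let Y : Over (Spec (CommRingCat.of B)) := Over.mk t.left
    let e : Over.mk (Y.hom ≫ b) ⟶ X' := Over.homMk (𝟙 _) (by
      show 𝟙 _ ≫ X'.hom = t.left ≫ b
      rw [Category.id_comp]; exact (Over.w t).symm)
    have : IsIso e := by
      have : IsIso e.left := inferInstanceAs (IsIso (𝟙 _))
      have : IsIso ((Over.forget S).map e) := this
      exact isIso_of_reflects_iso _ (Over.forget S)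
    refine ⟨Y, e, this, ?_⟩
    apply Over.OverMorphism.ext
    show ((𝟙 _ ≫ t.left) ≫ 𝟙 _ ≫ g.left ≫ pullback.fst G.hom b) =
      ((toUnit Y).left ≫ g.left) ≫ pullback.fst G.hom b
    rw [Category.id_comp, Category.id_comp, Category.assoc]
    congr 1
  have hx : Sends i₁ i₂ (Over.mk b) x ∧ SendsBack i₁ i₂ (Over.mk b) x := by
    constructor
    · intro X' t h
      obtain ⟨Y, e, he, het⟩ := key X' t
      let hb := NilAction.ofBase b (e ≫ h)
      refine ⟨inv e ≫ NilAction.toBase b (hb ≫ φ.hom), ?_⟩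
      rw [← cancel_epi e]
      simp only [MonObj.comp_mul, GrpObj.comp_inv, ← Category.assoc, IsIso.hom_inv_id, Category.id_comp, het]
      have h2 := congrArg (fun m => toBaseHom b (hb ≫ m)) hφ
      simp only [MonObj.comp_mul, GrpObj.comp_inv, ← Category.assoc, map_mul, map_inv] at h2
      rw [toUnit_unique (hb ≫ toUnit _) (toUnit Y)] at h2
      simp only [toBaseHom, MonoidHom.mk'_apply, hb, NilAction.ofBase_comp, NilAction.toBase_ofBase] at h2
      rw [h2, toBase_map]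
    · intro X' t h
      obtain ⟨Y, e, he, het⟩ := key X' t
      let hb := NilAction.ofBase b (e ≫ h)
      refine ⟨inv e ≫ NilAction.toBase b (hb ≫ φ.inv), ?_⟩
      rw [← cancel_epi e]
      simp only [MonObj.comp_mul, GrpObj.comp_inv, ← Category.assoc, IsIso.hom_inv_id, Category.id_comp, het]
      have h2 := congrArg (fun m => toBaseHom b ((hb ≫ φ.inv) ≫ m)) hφ
      simp only [MonObj.comp_mul, GrpObj.comp_inv, Category.assoc, Iso.inv_hom_id_assoc, map_mul, map_inv] at h2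
      rw [← Category.assoc φ.inv, ← Category.assoc hb, toUnit_unique (hb ≫ φ.inv ≫ toUnit _) (toUnit Y)] at h2
      have h3 : toBaseHom b (hb ≫ (Over.pullback b).map i₂) = (e ≫ h) ≫ i₂ := by
        simp only [toBaseHom, MonoidHom.mk'_apply, hb, NilAction.ofBase_comp, NilAction.toBase_ofBase]
      rw [h3] at h2
      rw [← h2]
      simp only [toBaseHom, MonoidHom.mk'_apply]
      have h4 : NilAction.toBase b (hb ≫ φ.inv ≫ (Over.pullback b).map i₁) = NilAction.toBase b (hb ≫ φ.inv) ≫ i₁ := by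
        rw [← Category.assoc, toBase_map]
      rw [h4]
      group
  obtain ⟨w, hw⟩ := (hW _ x).2 hx
  refine ⟨w.left, ?_, Over.w w⟩
  let zb : Over.mk ((Cocycle.Z I).hom ≫ b) ⟶ Over.mk b := Over.homMk (Cocycle.Z I).hom rfl
  have hzb : zb ≫ x = g₀s ≫ i := by
    rw [← NilAction.toBase_ofBase b (g₀s ≫ i)]
    change zb ≫ x = NilAction.toBase b g₀
    rw [← hg]
    apply Over.OverMorphism.ext
    show (Cocycle.Z I).hom ≫ 𝟙 _ ≫ g.left ≫ pullback.fst G.hom b =
        ((toUnit (Cocycle.Z I)).left ≫ g.left) ≫ pullback.fst G.hom b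
    rw [Category.id_comp, Category.assoc]
    congr 1
  exact congrArg (fun m => m.left) ((cancel_mono i).1 (by rw [Category.assoc, hw, hzb]) : zb ≫ w = g₀s)

end Groth.L25.Locus
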