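import Groth.Agent.L25.Locus.Smooth
import Groth.Prelude.Def_Red2

/-!
# Transporters and centralizers of homomorphisms from groups of multiplicative type
-/

set_option autoImplicit false
universe u

open CategoryTheory CategoryTheory.Limits MonoidalCategory CartesianMonoidalCategory MonObj GrpObj
open AlgebraicGeometry

set_option backward.isDefEq.respectTransparency.types false

noncomputable section

namespace Groth.L25.Locus

variable {S : Scheme.{u}} {H G : Over S} [GrpObj H] [GrpObj G]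

theorem locally_of_multTypeFT (hH : SGA3x.IsMultTypeFT H) :
    TwC.Locally S TwC.Topology.fpqc (fun S' f => ∃ (M : Type) (_ : AddCommGroup M),
      Nonempty (Grp.mk (Red.bc f H) ≅ Grp.mk (Red.DS S' M))) := by
  obtain ⟨S', f, h1, h2, h3, h4⟩ := hH
  refine ⟨S', f, h1, h2, h3, fun s => ?_⟩
  obtain ⟨U, hU, M, inst, -, e⟩ := h4 s
  exact ⟨U, hU, M, inst, e⟩

variable (hH : TwC.Locally S TwC.Topology.fpqc (fun S' f => ∃ (M : Type) (_ : AddCommGroup M),
  Nonempty (Grp.mk (Red.bc f H) ≅ Grp.mk (Red.DS S' M))))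

include hH in
theorem exists_transporter [IsSeparated G.hom] (u₁ u₂ : H ⟶ G) :
    ∃ (W : Over S) (i : W ⟶ G), IsClosedImmersion i.left ∧
      (LocallyOfFiniteType G.hom → LocallyOfFinitePresentation i.left) ∧
      ∀ (T' : Over S) (x : T' ⟶ G), (∃ w, w ≫ i = x) ↔ Transports u₁ u₂ T' x := by
  obtain ⟨W, i, hi, hl, hW⟩ := exists_agree hH (Y := G)
    (fst G H * (snd G H ≫ u₁) * (fst G H)⁻¹) (snd G H ≫ u₂)
  refine ⟨W, i, hi, hl, fun T' x => (hW T' x).trans ?_⟩
  simp only [Transports, MonObj.comp_mul, GrpObj.comp_inv, lift_fst, lift_snd_assoc]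

include hH in
theorem exists_centralizer [IsSeparated G.hom] (u : H ⟶ G) [IsMonHom u] :
    ∃ (Z : Over S) (_ : GrpObj Z) (j : Z ⟶ G), Red.IsCentralizerOf u j ∧ IsClosedImmersion j.left ∧
      (LocallyOfFiniteType G.hom → LocallyOfFinitePresentation j.left) ∧
      (∀ (T' : Over S) (x : T' ⟶ G), (∃ w, w ≫ j = x) ↔ Transports u u T' x) := by
  obtain ⟨W, i, hi, hl, hW⟩ := exists_transporter hH u u
  have : Mono i := Over.mono_of_mono_left i
  obtain ⟨hg, him⟩ := exists_subgroup i (Transports u u) hW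
    (fun X' t h => by rw [MonObj.comp_one, _root_.one_mul, inv_one, _root_.mul_one])
    (fun T' x y hx hy X' t h => by
      rw [MonObj.comp_mul]
      have e1 := hy X' t h
      have e2 := hx X' t h
      calc t ≫ x * t ≫ y * h ≫ u * (t ≫ x * t ≫ y)⁻¹
          = t ≫ x * (t ≫ y * h ≫ u * (t ≫ y)⁻¹) * (t ≫ x)⁻¹ := by group
        _ = _ := by rw [e1, e2])
    (fun T' x hx X' t h => by
      rw [GrpObj.comp_inv]
      have e1 := hx X' t h
      calc (t ≫ x)⁻¹ * h ≫ u * ((t ≫ x)⁻¹)⁻¹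
          = (t ≫ x)⁻¹ * (t ≫ x * h ≫ u * (t ≫ x)⁻¹) * t ≫ x := by rw [e1]; group
        _ = _ := by group)
  refine ⟨W, hg, i, ⟨him, inferInstance, fun X g => (hW X g).trans ?_⟩, hi, hl, hW⟩
  constructor <;> intro h X' x p
  · have e := h X' x p
    rwa [mul_inv_eq_iff_eq_mul] at e
  · rw [mul_inv_eq_iff_eq_mul]
    exact h X' x p

include hH in
theorem exists_smooth_centralizer [IsSeparated G.hom] [Smooth G.hom] (u : H ⟶ G) [IsMonHom u] :
    ∃ (Z : Over S) (_ : GrpObj Z) (j : Z ⟶ G), Red.IsCentralizerOf u j ∧ IsClosedImmersion j.left ∧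
      Smooth Z.hom := by
  obtain ⟨Z, hg, j, hc, hj, hl, hW⟩ := exists_centralizer hH u
  have := hc.2.1
  have := hl inferInstance
  exact ⟨Z, hg, j, hc, hj, smooth_transporter hH u u j hW⟩

include hH in
theorem exists_smooth_transporter [IsSeparated G.hom] [Smooth G.hom] (u₁ u₂ : H ⟶ G) [IsMonHom u₁] [IsMonHom u₂] :
    ∃ (W : Over S) (i : W ⟶ G), IsClosedImmersion i.left ∧ Smooth W.hom ∧
      ∀ (T' : Over S) (x : T' ⟶ G), (∃ w, w ≫ i = x) ↔ Transports u₁ u₂ T' x := by
  obtain ⟨W, i, hi, hl, hW⟩ := exists_transporter hH u₁ u₂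
  have : Mono i := Over.mono_of_mono_left i
  have := hl inferInstance
  exact ⟨W, i, hi, smooth_transporter hH u₁ u₂ i hW, hW⟩

include hH in
/-- transporter into a closed subscheme -/
theorem exists_transporter_into {Y' : Over S} (u : H ⟶ G) (y' : Y' ⟶ G) [IsClosedImmersion y'.left] :
    ∃ (C : Over S) (c : C ⟶ G), IsClosedImmersion c.left ∧
      (LocallyOfFinitePresentation y'.left → LocallyOfFinitePresentation c.left) ∧
      ∀ (X : Over S) (g : X ⟶ G), (∃ z : X ⟶ C, z ≫ c = g) ↔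
        ∀ (X' : Over S) (x : X' ⟶ X) (h : X' ⟶ H), ∃ a' : X' ⟶ Y',
          (x ≫ g) * (h ≫ u) * (x ≫ g)⁻¹ = a' ≫ y' := by
  obtain ⟨W, i, hi, hl, hW⟩ := exists_representable hH (fst G H * (snd G H ≫ u) * (fst G H)⁻¹) y'
  refine ⟨W, i, hi, hl, fun X g => (hW X g).symm.trans ?_⟩
  simp only [Fac, MonObj.comp_mul, GrpObj.comp_inv, lift_fst, lift_snd_assoc, eq_comm]

end Groth.L25.Locus
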