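import Groth.Agent.L20.SchDesc.Cov
import Groth.Agent.L20.SchDesc.Fppf
import Mathlib.AlgebraicGeometry.Morphisms.ClosedImmersion
import Mathlib.AlgebraicGeometry.Morphisms.FinitePresentation
import Mathlib.AlgebraicGeometry.Morphisms.Flat
import Mathlib.CategoryTheory.Monoidal.Cartesian.Over
import Mathlib.RingTheory.Ideal.IdempotentFG

/-!
# Factorisation through a closed immersion
-/

set_option autoImplicit false
universe u

open CategoryTheory CategoryTheory.Limits AlgebraicGeometry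

set_option backward.isDefEq.respectTransparency.types false

noncomputable section

namespace Groth.L25.Locus

variable {X Y Y' : Scheme.{u}}

theorem factors_of_cover (k : Y' ⟶ Y) [Mono k] (f : X ⟶ Y)
    (h : ∀ x : X, ∃ (P : Scheme.{u}) (o : P ⟶ X) (_ : IsOpenImmersion o), x ∈ Set.range o ∧
      ∃ w : P ⟶ Y', w ≫ k = o ≫ f) : ∃ w : X ⟶ Y', w ≫ k = f := by
  choose P o ho hx w hw using h
  let 𝒰 : X.OpenCover := X.openCoverOfIsOpenCover (fun x => (o x).opensRange) (TopologicalSpace.IsOpenCover.mk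
    (top_le_iff.1 fun z _ => TopologicalSpace.Opens.mem_iSup.2 ⟨z, hx z⟩))
  have hw' : ∀ z : X, ((o z).isoOpensRange.inv ≫ w z) ≫ k = 𝒰.f z ≫ f := fun z => by
    rw [Category.assoc, hw, Scheme.Hom.isoOpensRange_inv_comp_assoc]
    rfl
  let W : X ⟶ Y' := 𝒰.glueMorphisms (fun z => (o z).isoOpensRange.inv ≫ w z) fun a b => by
    rw [← cancel_mono k]
    simp only [Category.assoc]
    have h1 := hw' a
    have h2 := hw' b
    simp only [Category.assoc] at h1 h2
    exact (congrArg (pullback.fst _ _ ≫ ·) h1).trans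
      ((pullback.condition_assoc f).trans (congrArg (pullback.snd _ _ ≫ ·) h2).symm)
  refine ⟨W, 𝒰.hom_ext _ _ fun z => ?_⟩
  exact (Scheme.Cover.ι_glueMorphisms_assoc 𝒰 (fun z => (o z).isoOpensRange.inv ≫ w z) _ z k).trans
    ((Category.assoc _ _ _).symm.trans (hw' z))

theorem factors_of_cov (k : Y' ⟶ Y) [Mono k] (f : X ⟶ Y) {P : Scheme.{u}} (p : P ⟶ X)
    [Groth.L20.SchDesc.Cov p] (w : P ⟶ Y') (hw : w ≫ k = p ≫ f) : ∃ w : X ⟶ Y', w ≫ k = f := by
  have := Groth.L20.SchDesc.Cov.epi p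
  obtain ⟨m, hm⟩ := Groth.L20.SchDesc.Cov.exists_desc (p := p) w fun g₁ g₂ e => by
    rw [← cancel_mono k, Category.assoc, Category.assoc, hw, reassoc_of% e]
  exact ⟨m, by rw [← cancel_epi p, ← Category.assoc, hm, hw]⟩

theorem factors_of_flat_surjective (k : Y' ⟶ Y) [Mono k] (f : X ⟶ Y) {P : Scheme.{u}} (p : P ⟶ X)
    [Flat p] [Surjective p] [QuasiCompact p] (w : P ⟶ Y') (hw : w ≫ k = p ≫ f) : ∃ w : X ⟶ Y', w ≫ k = f :=
  factors_of_cov k f p w hw

/-- the ideal of the inverse image of a closed subscheme -/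
theorem exists_ideal_factors {A : Type u} [CommRing A] (k : Y' ⟶ Y) [IsClosedImmersion k]
    (f : Spec (CommRingCat.of A) ⟶ Y) :
    ∃ I : Ideal A, (LocallyOfFinitePresentation k → I.FG) ∧
      ∀ (B : Type u) [CommRing B] (ψ : A →+* B),
        (∃ w, w ≫ k = Spec.map (CommRingCat.ofHom ψ) ≫ f) ↔ ∀ x ∈ I, ψ x = 0 := by
  let p := pullback.fst f k
  have : IsClosedImmersion p := MorphismProperty.pullback_fst _ _ ‹_›
  obtain ⟨I, ε, hε⟩ := (IsClosedImmersion.Spec_iff (R := CommRingCat.of A) (f := p)).1 ‹_›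
  refine ⟨I, fun hk => ?_, fun B _ ψ => ?_⟩
  · have hp : LocallyOfFinitePresentation p := MorphismProperty.pullback_fst _ _ hk
    have h1 : LocallyOfFinitePresentation (ε.inv ≫ p) := inferInstance
    rw [hε, Iso.inv_hom_id_assoc, HasRingHomProperty.Spec_iff (P := @LocallyOfFinitePresentation)] at h1
    have : Algebra.FinitePresentation A (A ⧸ I) := RingHom.finitePresentation_algebraMap.1 h1
    have h2 := Algebra.FinitePresentation.ker_fG_of_surjective (Ideal.Quotient.mkₐ A I)
      (Ideal.Quotient.mkₐ_surjective A I)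
    have e1 : RingHom.ker (Ideal.Quotient.mkₐ A I).toRingHom = I := Ideal.mk_ker
    exact e1 ▸ h2
  constructor
  · rintro ⟨w, hw⟩ x hx
    obtain ⟨φ, hφ⟩ := Spec.map_surjective (pullback.lift (Spec.map (CommRingCat.ofHom ψ)) w hw.symm ≫ ε.hom)
    have h1 : CommRingCat.ofHom (Ideal.Quotient.mk I) ≫ φ = CommRingCat.ofHom ψ := by
      apply Spec.map_injective
      rw [Spec.map_comp, hφ, Category.assoc, ← hε]
      exact pullback.lift_fst _ _ _
    have h2 := congrArg (fun m => m.hom x) h1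
    simp only [CommRingCat.hom_comp, CommRingCat.hom_ofHom, RingHom.comp_apply,
      Ideal.Quotient.eq_zero_iff_mem.2 hx, map_zero] at h2
    exact h2.symm
  · intro h
    refine ⟨Spec.map (CommRingCat.ofHom (Ideal.Quotient.lift I ψ h)) ≫ ε.inv ≫ pullback.snd f k, ?_⟩
    rw [Category.assoc, Category.assoc, ← pullback.condition]
    show Spec.map _ ≫ ε.inv ≫ p ≫ _ = _
    rw [hε, Category.assoc, Iso.inv_hom_id_assoc, ← Spec.map_comp_assoc, ← CommRingCat.ofHom_comp,
      Ideal.Quotient.lift_comp_mk]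

end Groth.L25.Locus
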