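import Groth.Agent.L25.Locus.Content
import Groth.Agent.L11.Magnet.ClosedSub
import Groth.Agent.L20.FibreScheme

/-!
# Representability of the locus where all points of a group of multiplicative type land in a closed subscheme
-/

set_option autoImplicit false
universe u

open CategoryTheory CategoryTheory.Limits MonoidalCategory CartesianMonoidalCategory
open AlgebraicGeometry Groth.L25.Cocycle

set_option backward.isDefEq.respectTransparency.types false

noncomputable section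

namespace Groth.L25.Locus

variable {S : Scheme.{u}} {H T Y Y' : Over S} {a : T ⊗ H ⟶ Y} {k : Y' ⟶ Y}

theorem Fac.of_family [Mono k.left] {T' : Over S} {ι : Type u} (P : ι → Over S) (c : ∀ i, P i ⟶ T')
    (hf : ∀ i, Flat (c i).left) (hl : ∀ i, LocallyOfFinitePresentation (c i).left)
    (hs : ∀ z : T'.left, ∃ i, z ∈ Set.range (c i).left) (x : T' ⟶ T)
    (hF : ∀ i, Fac a k (P i) (c i ≫ x)) : Fac a k T' x := by
  let Q : ι → Scheme.{u} := fun i => (P i).left
  let q : ∐ Q ⟶ T'.left := Sigma.desc fun i => (c i).left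
  have : Flat q := IsZariskiLocalAtSource.sigmaDesc hf
  have : LocallyOfFinitePresentation q := IsZariskiLocalAtSource.sigmaDesc hl
  have : Surjective q := ⟨fun z => by
    obtain ⟨i, w, hw⟩ := hs z
    refine ⟨Sigma.ι Q i w, ?_⟩
    rw [← Scheme.Hom.comp_apply, Sigma.ι_desc]
    exact hw⟩
  let qo : Over.mk (q ≫ T'.hom) ⟶ T' := Over.homMk q rfl
  have : Groth.L20.SchDesc.Cov qo.left := inferInstanceAs (Groth.L20.SchDesc.Cov q)
  refine Fac.of_cov qo ?_
  let o : ∀ i, P i ⟶ Over.mk (q ≫ T'.hom) := fun i => Over.homMk (Sigma.ι Q i) (by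
    show Sigma.ι Q i ≫ q ≫ T'.hom = (P i).hom
    rw [Sigma.ι_desc_assoc]
    exact Over.w (c i))
  have : ∀ i, IsOpenImmersion (o i).left := fun i => inferInstanceAs (IsOpenImmersion (Sigma.ι Q i))
  refine Fac.of_cover P o (fun z => ?_) fun i => ?_
  · obtain ⟨i, w, hw⟩ := (sigmaOpenCover Q).exists_eq z
    exact ⟨i, w, hw⟩
  · have e : o i ≫ qo = c i := Over.OverMorphism.ext (Sigma.ι_desc _ _)
    rw [← Category.assoc, e]
    exact hF i

variable [GrpObj H]

/-- the locus on an affine piece -/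
theorem exists_piece (hH : TwC.Locally S TwC.Topology.fpqc (fun S' f => ∃ (M : Type) (_ : AddCommGroup M),
      Nonempty (Grp.mk (Red.bc f H) ≅ Grp.mk (Red.DS S' M))))
    (a : T ⊗ H ⟶ Y) (k : Y' ⟶ Y) [IsClosedImmersion k.left] (V : Over S) [IsAffine V.left] (v₀ : V ⟶ T) :
    ∃ (W : Over S) (i : W ⟶ V), IsClosedImmersion i.left ∧
      (LocallyOfFinitePresentation k.left → LocallyOfFinitePresentation i.left) ∧
      ∀ (T' : Over S) (x : T' ⟶ V), Fac a k T' (x ≫ v₀) ↔ ∃ w, w ≫ i = x := by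
  let R : Type u := Γ(V.left, ⊤)
  let φ := V.left.isoSpec
  let j : Spec (CommRingCat.of R) ⟶ S := φ.inv ≫ V.hom
  let ε : Over.mk j ⟶ V := Over.homMk φ.inv rfl
  let ε' : V ⟶ Over.mk j := Over.homMk φ.hom (φ.hom_inv_id_assoc _)
  obtain ⟨c, hfg, hc⟩ := exists_ideal hH a k (ε ≫ v₀)
  let W : Over S := Over.mk (Spec.map (CommRingCat.ofHom (Ideal.Quotient.mk c)) ≫ φ.inv ≫ V.hom)
  let i : W ⟶ V := Over.homMk (Spec.map (CommRingCat.ofHom (Ideal.Quotient.mk c)) ≫ φ.inv) (Category.assoc _ _ _)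
  have hspec : IsClosedImmersion (Spec.map (CommRingCat.ofHom (Ideal.Quotient.mk c))) :=
    IsClosedImmersion.spec_of_surjective _ Ideal.Quotient.mk_surjective
  have hi : IsClosedImmersion i.left :=
    inferInstanceAs (IsClosedImmersion (Spec.map (CommRingCat.ofHom (Ideal.Quotient.mk c)) ≫ φ.inv))
  refine ⟨W, i, hi, fun hk => ?_, fun T' x => ⟨fun hF => ?_, ?_⟩⟩
  · have : LocallyOfFinitePresentation (Spec.map (CommRingCat.ofHom (Ideal.Quotient.mk c))) := by
      rw [HasRingHomProperty.Spec_iff (P := @LocallyOfFinitePresentation)]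
      have : Algebra.FinitePresentation R (R ⧸ c) := Algebra.FinitePresentation.quotient (hfg hk)
      exact RingHom.finitePresentation_algebraMap.2 this
    exact inferInstanceAs (LocallyOfFinitePresentation
      (Spec.map (CommRingCat.ofHom (Ideal.Quotient.mk c)) ≫ φ.inv))
  · refine over_factors (factors_of_cover i.left _ fun z => ?_)
    obtain ⟨_, ⟨D, hD, rfl⟩, hzD, -⟩ := T'.left.isBasis_affineOpens.exists_subset_of_mem_open
      (Set.mem_univ z) isOpen_univ
    obtain ⟨θ, hθ⟩ := Spec.map_surjective (hD.fromSpec ≫ x.left ≫ φ.hom)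
    letI : Algebra R Γ(T'.left, D) := θ.hom.toAlgebra
    have hx : hD.fromSpec ≫ x.left = Spec.map θ ≫ φ.inv := by
      rw [hθ, Category.assoc, Category.assoc, Iso.hom_inv_id, Category.comp_id]
    let ζ : X j Γ(T'.left, D) ⟶ T' := Over.homMk hD.fromSpec (by
      show hD.fromSpec ≫ T'.hom = Spec.map θ ≫ φ.inv ≫ V.hom
      rw [← Category.assoc, ← hx, Category.assoc, Over.w x])
    have h1 := hF.comp ζ
    have e : ζ ≫ x ≫ v₀ = toJ j Γ(T'.left, D) ≫ ε ≫ v₀ := by
      rw [← Category.assoc, ← Category.assoc]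
      congr 1
      exact Over.OverMorphism.ext hx
    rw [e] at h1
    refine ⟨_, hD.fromSpec, inferInstance, hD.range_fromSpec.ge hzD,
      Spec.map (CommRingCat.ofHom (Ideal.Quotient.lift c θ.hom ((hc Γ(T'.left, D)).1 h1))), ?_⟩
    show _ ≫ Spec.map (CommRingCat.ofHom (Ideal.Quotient.mk c)) ≫ φ.inv = hD.fromSpec ≫ x.left
    rw [← Spec.map_comp_assoc, ← CommRingCat.ofHom_comp, Ideal.Quotient.lift_comp_mk, hx]
    rfl
  · rintro ⟨w, rfl⟩
    rw [Category.assoc]
    refine Fac.comp ?_ w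
    have h1 := (hc (R ⧸ c)).2 fun r hr => Ideal.Quotient.eq_zero_iff_mem.2 hr
    let p : W ⟶ X j (R ⧸ c) := Over.homMk (𝟙 _) (Category.id_comp _)
    have e : i ≫ v₀ = p ≫ toJ j (R ⧸ c) ≫ ε ≫ v₀ := by
      apply Over.OverMorphism.ext
      show (Spec.map _ ≫ φ.inv) ≫ v₀.left = 𝟙 _ ≫ Spec.map _ ≫ φ.inv ≫ v₀.left
      rw [Category.id_comp, Category.assoc]
    rw [e]
    exact h1.comp p

/-- representability of the locus -/
theorem exists_representable (hH : TwC.Locally S TwC.Topology.fpqc (fun S' f => ∃ (M : Type) (_ : AddCommGroup M),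
      Nonempty (Grp.mk (Red.bc f H) ≅ Grp.mk (Red.DS S' M))))
    (a : T ⊗ H ⟶ Y) (k : Y' ⟶ Y) [IsClosedImmersion k.left] :
    ∃ (W : Over S) (i : W ⟶ T), IsClosedImmersion i.left ∧
      (LocallyOfFinitePresentation k.left → LocallyOfFinitePresentation i.left) ∧
      ∀ (T' : Over S) (x : T' ⟶ T), Fac a k T' x ↔ ∃ w, w ≫ i = x := by
  let κ : Type u := T.left.affineOpens
  let V : κ → T.left.Opens := fun U => U.1
  have hV : ∀ x, ∃ i, x ∈ V i := fun x => by
    obtain ⟨_, ⟨D, hD, rfl⟩, hxD, -⟩ := T.left.isBasis_affineOpens.exists_subset_of_mem_open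
      (Set.mem_univ x) isOpen_univ
    exact ⟨⟨D, hD⟩, hxD⟩
  let P : κ → Over S := fun U => Over.mk ((V U).ι ≫ T.hom)
  let v : ∀ U, P U ⟶ T := fun U => Over.homMk (V U).ι rfl
  have hP : ∀ U, IsAffine (P U).left := fun U => U.2
  choose WU iU hiU hlU hWU using fun U => @exists_piece S H T Y Y' _ hH a k _ (P U) (hP U) (v U)
  obtain ⟨W, i, hi, hW⟩ := Groth.L11.Magnet.exists_closed_of_openCover V hV (fun T' x => Fac a k T' x)
    (fun c x h => h.comp c) (fun P' c hf hl hs x hF => Fac.of_family P' c hf hl hs x hF)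
    (fun U => ⟨WU U, iU U, hiU U, hWU U⟩)
  refine ⟨W, i, hi, fun hk => ?_, hW⟩
  refine IsZariskiLocalAtTarget.of_iSup_eq_top (P := @LocallyOfFinitePresentation) V
    (top_le_iff.1 fun z _ => TopologicalSpace.Opens.mem_iSup.2 (hV z)) fun U => ?_
  have hlU' := hlU U hk
  let W₁ : Over S := Over.mk ((i.left ∣_ V U) ≫ (P U).hom)
  let p₁ : W₁ ⟶ P U := Over.homMk (i.left ∣_ V U) rfl
  let q₁ : W₁ ⟶ W := Over.homMk (i.left ⁻¹ᵁ V U).ι (by
    show (i.left ⁻¹ᵁ V U).ι ≫ W.hom = (i.left ∣_ V U) ≫ (V U).ι ≫ T.hom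
    rw [morphismRestrict_ι_assoc]
    exact congrArg _ (Over.w i).symm)
  have e₁ : q₁ ≫ i = p₁ ≫ v U := Over.OverMorphism.ext (morphismRestrict_ι _ _).symm
  obtain ⟨f, hf⟩ := (hWU U W₁ p₁).1 ((hW _ _).2 ⟨q₁, e₁⟩)
  obtain ⟨g, hg⟩ := (hW (WU U) (iU U ≫ v U)).1 ((hWU U _ _).2 ⟨𝟙 _, Category.id_comp _⟩)
  let g₁ : (WU U).left ⟶ (i.left ⁻¹ᵁ V U : Scheme.{u}) :=
    (isPullback_morphismRestrict i.left (V U)).flip.lift g.left (iU U).left (congrArg (fun m => m.left) hg)
  have hg₁ : g₁ ≫ (i.left ∣_ V U) = (iU U).left :=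
    (isPullback_morphismRestrict i.left (V U)).flip.lift_snd _ _ _
  have hff : f.left ≫ (iU U).left = i.left ∣_ V U := congrArg (fun m => m.left) hf
  have : IsClosedImmersion (i.left ∣_ V U) := IsZariskiLocalAtTarget.restrict (P := @IsClosedImmersion) hi (V U)
  have := hiU U
  have : IsIso f.left := ⟨g₁, (cancel_mono (i.left ∣_ V U)).1 (by rw [Category.assoc, hg₁, hff, Category.id_comp]),
    (cancel_mono (iU U).left).1 (by rw [Category.assoc, hff, hg₁, Category.id_comp])⟩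
  show LocallyOfFinitePresentation (i.left ∣_ V U)
  rw [← hff]
  infer_instance

section Diag

variable [IsSeparated Y.hom]

/-- the diagonal -/
abbrev diag (Y : Over S) : Y ⟶ Y ⊗ Y := lift (𝟙 Y) (𝟙 Y)

theorem diag_left : (diag Y).left = pullback.diagonal Y.hom := rfl

theorem isClosedImmersion_diag : IsClosedImmersion (diag Y).left :=
  IsSeparated.isClosedImmersion_diagonal

theorem lfp_diag [LocallyOfFiniteType Y.hom] : LocallyOfFinitePresentation (diag Y).left := by
  have : LocallyOfFinitePresentation (pullback.diagonal Y.hom ≫ pullback.fst Y.hom Y.hom) := by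
    rw [pullback.diagonal_fst]; infer_instance
  exact Groth.L20.locallyOfFinitePresentation_of_comp (pullback.diagonal Y.hom) (pullback.fst Y.hom Y.hom)

end Diag

theorem fac_diag_iff (a b : T ⊗ H ⟶ Y) (T' : Over S) (x : T' ⟶ T) :
    Fac (lift a b) (diag Y) T' x ↔
      ∀ (X' : Over S) (t : X' ⟶ T') (h : X' ⟶ H), lift (t ≫ x) h ≫ a = lift (t ≫ x) h ≫ b := by
  constructor
  · intro hF X' t h
    obtain ⟨y, hy⟩ := hF X' t h
    have h1 := hy =≫ fst Y Y
    have h2 := hy =≫ snd Y Y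
    simp only [diag, comp_lift, Category.comp_id, lift_fst, lift_snd] at h1 h2
    exact h1.symm.trans h2
  · intro hF X' t h
    refine ⟨lift (t ≫ x) h ≫ a, ?_⟩
    simp only [diag, comp_lift, Category.comp_id]
    rw [← hF X' t h]

/-- the locus where two families of morphisms agree on all points of `H` -/
theorem exists_agree (hH : TwC.Locally S TwC.Topology.fpqc (fun S' f => ∃ (M : Type) (_ : AddCommGroup M),
      Nonempty (Grp.mk (Red.bc f H) ≅ Grp.mk (Red.DS S' M))))
    [IsSeparated Y.hom] (a b : T ⊗ H ⟶ Y) :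
    ∃ (W : Over S) (i : W ⟶ T), IsClosedImmersion i.left ∧
      (LocallyOfFiniteType Y.hom → LocallyOfFinitePresentation i.left) ∧
      ∀ (T' : Over S) (x : T' ⟶ T), (∃ w, w ≫ i = x) ↔
        ∀ (X' : Over S) (t : X' ⟶ T') (h : X' ⟶ H), lift (t ≫ x) h ≫ a = lift (t ≫ x) h ≫ b := by
  have := isClosedImmersion_diag (Y := Y)
  obtain ⟨W, i, hi, hl, hW⟩ := exists_representable hH (lift a b) (diag Y)
  exact ⟨W, i, hi, fun _ => hl lfp_diag, fun T' x => (hW T' x).symm.trans (fac_diag_iff a b T' x)⟩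

end Groth.L25.Locus
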