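import Groth.Agent.L25.Cocycle.NilConj
import Groth.Agent.L25.MultTypeBC
import Groth.Agent.L25.Locus.Main
import Groth.Agent.L09.GrpQuot

/-!
# Smoothness of transporters; subgroups from closed loci
-/

set_option autoImplicit false
universe u

open CategoryTheory CategoryTheory.Limits MonoidalCategory CartesianMonoidalCategory MonObj GrpObj
open AlgebraicGeometry

set_option backward.isDefEq.respectTransparency.types false

noncomputable section

namespace Groth.L25.Locus

/-- fpqc-local splitting is stable under base change -/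
theorem locally_bc {S T : Scheme.{u}} {H : Over S} [GrpObj H]
    (hH : TwC.Locally S TwC.Topology.fpqc (fun S' f => ∃ (M : Type) (_ : AddCommGroup M),
      Nonempty (Grp.mk (Red.bc f H) ≅ Grp.mk (Red.DS S' M)))) (g : T ⟶ S) :
    TwC.Locally T TwC.Topology.fpqc (fun S' f => ∃ (M : Type) (_ : AddCommGroup M),
      Nonempty (Grp.mk (Red.bc f (Red.bc g H)) ≅ Grp.mk (Red.DS S' M))) := by
  obtain ⟨S', f, hflat, hsurj, hqc, hloc⟩ := hH
  refine ⟨pullback g f, pullback.fst g f, inferInstance, inferInstance,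
    fun V hV => MultTypeBC.exists_compact_image f hqc g V hV, fun x => ?_⟩
  obtain ⟨U, hU, M, instM, ⟨e⟩⟩ := hloc (pullback.snd g f x)
  letI := instM
  let U' := pullback.snd g f ⁻¹ᵁ U
  refine ⟨U', hU, M, instM, ⟨?_⟩⟩
  refine Grp.mkIso' (ActBC.bcCompIso (U'.ι ≫ pullback.fst g f) g H rfl) ≪≫
    TrivLocus.restrictIso (U.ι ≫ f) (pullback.snd g f ∣_ U) e ?_
  rw [morphismRestrict_ι_assoc, Category.assoc, pullback.condition]

theorem smooth_of_formallySmooth {X Y : Scheme.{u}} (f : X ⟶ Y) [LocallyOfFinitePresentation f]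
    (hf : MoreMor.IsFormallySmoothHom f) : Smooth f := by
  rw [HasRingHomProperty.iff_appLE (P := @Smooth)]
  intro U V e
  have hfs := Groth.L20.SmoothLocal.formallySmooth_of_isFormallySmoothHom hf ⟨V.1, U.1, V.2, U.2, e⟩
  have hfp : (f.appLE U.1 V.1 e).hom.FinitePresentation :=
    HasRingHomProperty.appLE @LocallyOfFinitePresentation f inferInstance U V e
  letI := (f.appLE U.1 V.1 e).hom.toAlgebra
  have : Algebra.FinitePresentation Γ(Y, U.1) Γ(X, V.1) := hfp
  exact ⟨hfs, inferInstance⟩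

section Base

variable {S P : Scheme.{u}} (j : P ⟶ S) {G : Over S}

theorem comp_ofBase {X : Over S} {Y Y' : Over P} (c : Y' ⟶ Y) (x : Over.mk (Y.hom ≫ j) ⟶ X) :
    c ≫ NilAction.ofBase j x = NilAction.ofBase j ((Over.homMk c.left (by
      show c.left ≫ Y.hom ≫ j = Y'.hom ≫ j
      rw [← Category.assoc, Over.w c]) : Over.mk (Y'.hom ≫ j) ⟶ Over.mk (Y.hom ≫ j)) ≫ x) := by
  apply Over.OverMorphism.ext
  apply pullback.hom_ext
  · simp only [NilAction.ofBase, Over.comp_left, Over.homMk_left, Category.assoc, pullback.lift_fst]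
  · simp only [NilAction.ofBase, Over.comp_left, Over.homMk_left, Category.assoc, pullback.lift_snd, Over.w c]

variable [GrpObj G] {Y : Over P}

/-- points of the base change, as a homomorphism -/
def toBaseHom : (Y ⟶ Red.bc j G) →* (Over.mk (Y.hom ≫ j) ⟶ G) :=
  MonoidHom.mk' (NilAction.toBase j) (NilAction.toBase_mul j)

theorem ofBase_mul (a b : Over.mk (Y.hom ≫ j) ⟶ G) :
    NilAction.ofBase j (a * b) = NilAction.ofBase j a * NilAction.ofBase j b := by
  rw [← NilAction.ofBase_toBase j (NilAction.ofBase j a * NilAction.ofBase j b), NilAction.toBase_mul,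
    NilAction.toBase_ofBase, NilAction.toBase_ofBase]

theorem ofBase_inv (a : Over.mk (Y.hom ≫ j) ⟶ G) : NilAction.ofBase j a⁻¹ = (NilAction.ofBase j a)⁻¹ :=
  map_inv (MonoidHom.mk' (NilAction.ofBase j (X := G) (Y := Y)) (ofBase_mul j)) a

end Base

variable {S : Scheme.{u}} {H G W : Over S} [GrpObj H] [GrpObj G]

/-- `x` transports `u₁` into `u₂` -/
def Transports (u₁ u₂ : H ⟶ G) (T' : Over S) (x : T' ⟶ G) : Prop :=
  ∀ (X' : Over S) (t : X' ⟶ T') (h : X' ⟶ H), (t ≫ x) * (h ≫ u₁) * (t ≫ x)⁻¹ = h ≫ u₂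

/-- the transporter of homomorphisms from a group of multiplicative type into a smooth group is smooth -/
theorem smooth_transporter [Smooth G.hom]
    (hH : TwC.Locally S TwC.Topology.fpqc (fun S' f => ∃ (M : Type) (_ : AddCommGroup M),
      Nonempty (Grp.mk (Red.bc f H) ≅ Grp.mk (Red.DS S' M))))
    (u₁ u₂ : H ⟶ G) [IsMonHom u₁] [IsMonHom u₂] (i : W ⟶ G) [Mono i] [LocallyOfFinitePresentation i.left]
    (hW : ∀ (T' : Over S) (x : T' ⟶ G), (∃ w, w ≫ i = x) ↔ Transports u₁ u₂ T' x) : Smooth W.hom := by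
  have : LocallyOfFinitePresentation W.hom := by rw [← Over.w i]; infer_instance
  refine smooth_of_formallySmooth _ fun B _ I hI a₀ b hab => ?_
  let g₀s : Over.mk ((Cocycle.Z I).hom ≫ b) ⟶ W := Over.homMk a₀ hab.symm
  have hG' : Smooth (Red.bc b G).hom := MorphismProperty.pullback_snd G.hom b ‹_›
  let g₀ : Cocycle.Z I ⟶ Red.bc b G := NilAction.ofBase b (g₀s ≫ i)
  obtain ⟨g, hg⟩ := Cocycle.exists_lift_point (J := I) ⟨2, hI⟩ g₀
  let v₁ := (Over.pullback b).map u₁
  let v₂ := (Over.pullback b).map u₂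
  have htr := (hW _ (g₀s ≫ i)).1 ⟨g₀s, rfl⟩
  have hA : Cocycle.AgreeMod I (Cocycle.intBy g v₁) v₂ := by
    intro Y q h
    rw [Cocycle.comp_intBy, toUnit_unique (toUnit Y) (q ≫ toUnit _), Category.assoc, hg,
      ← NilAction.ofBase_toBase b h, comp_ofBase, NilAction.ofBase_comp, NilAction.ofBase_comp,
      ← ofBase_inv, ← ofBase_mul, ← ofBase_mul]
    exact congrArg (NilAction.ofBase b) (htr _ _ _)
  obtain ⟨g', hg'1, hg'⟩ := Cocycle.exists_conj_nilpotent (locally_bc hH b) (J := I) ⟨2, hI⟩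
    (Cocycle.intBy g v₁) v₂ hA
  let G1 := g' * g
  let c : Over.mk b ⟶ Over.mk ((𝟙_ (Over (Spec (CommRingCat.of B)))).hom ≫ b) :=
    Over.homMk (𝟙 _) (by
      show 𝟙 _ ≫ 𝟙 _ ≫ b = b
      rw [Category.id_comp, Category.id_comp])
  let x : Over.mk b ⟶ G := c ≫ NilAction.toBase b G1
  have hx : Transports u₁ u₂ (Over.mk b) x := by
    intro X' t h
    let Y : Over (Spec (CommRingCat.of B)) := Over.mk t.left
    let e : Over.mk (Y.hom ≫ b) ⟶ X' := Over.homMk (𝟙 _) (by
      show 𝟙 _ ≫ X'.hom = t.left ≫ b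
      rw [Category.id_comp]; exact (Over.w t).symm)
    have : IsIso e := by
      have : IsIso e.left := inferInstanceAs (IsIso (𝟙 _))
      have : IsIso ((Over.forget S).map e) := this
      exact isIso_of_reflects_iso _ (Over.forget S)
    rw [← cancel_epi e]
    simp only [MonObj.comp_mul, GrpObj.comp_inv, ← Category.assoc]
    have h1 : (e ≫ t) ≫ x = NilAction.toBase b (toUnit Y ≫ G1) := by
      apply Over.OverMorphism.ext
      show ((𝟙 _ ≫ t.left) ≫ 𝟙 _ ≫ G1.left ≫ pullback.fst G.hom b) =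
        ((toUnit Y).left ≫ G1.left) ≫ pullback.fst G.hom b
      rw [Category.id_comp, Category.id_comp, Category.assoc]
      congr 1
    have h2 := hg' Y (NilAction.ofBase b (e ≫ h))
    rw [Cocycle.comp_intBy, NilAction.ofBase_comp, NilAction.ofBase_comp] at h2
    have h3 := congrArg (NilAction.toBase b) h2
    change _ = toBaseHom b _ at h3
    simp only [map_mul, map_inv] at h3
    simp only [toBaseHom, MonoidHom.mk'_apply, NilAction.toBase_ofBase] at h3
    have hmul : NilAction.toBase b (toUnit Y ≫ G1) =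
        NilAction.toBase b (toUnit Y ≫ g') * NilAction.toBase b (toUnit Y ≫ g) := by
      rw [← NilAction.toBase_mul, ← MonObj.comp_mul]
    rw [h1, hmul]
    refine Eq.trans ?_ h3.symm
    group
  obtain ⟨w, hw⟩ := (hW _ x).2 hx
  refine ⟨w.left, ?_, Over.w w⟩
  let zb : Over.mk ((Cocycle.Z I).hom ≫ b) ⟶ Over.mk b := Over.homMk (Cocycle.Z I).hom rfl
  have hzb : zb ≫ x = g₀s ≫ i := by
    rw [← NilAction.toBase_ofBase b (g₀s ≫ i)]
    have e1 : toUnit (Cocycle.Z I) ≫ G1 = g₀ := by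
      show _ ≫ (g' * g) = _
      rw [MonObj.comp_mul, hg'1, hg, _root_.one_mul]
    change zb ≫ x = NilAction.toBase b g₀
    rw [← e1]
    apply Over.OverMorphism.ext
    show (Cocycle.Z I).hom ≫ 𝟙 _ ≫ G1.left ≫ pullback.fst G.hom b =
        ((toUnit (Cocycle.Z I)).left ≫ G1.left) ≫ pullback.fst G.hom b
    rw [Category.id_comp, Category.assoc]
    congr 1
  have h4 : zb ≫ w = g₀s := (cancel_mono i).1 (by rw [Category.assoc, hw, hzb])
  exact congrArg (fun m => m.left) h4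

omit [GrpObj H] in
/-- a closed locus stable under the group operations is a closed subgroup -/
theorem exists_subgroup (i : W ⟶ G) [Mono i] (F : ∀ T' : Over S, (T' ⟶ G) → Prop)
    (hW : ∀ (T' : Over S) (x : T' ⟶ G), (∃ w, w ≫ i = x) ↔ F T' x) (h1 : F _ (1 : 𝟙_ (Over S) ⟶ G))
    (hm : ∀ (T' : Over S) (x y : T' ⟶ G), F T' x → F T' y → F T' (x * y))
    (hinv : ∀ (T' : Over S) (x : T' ⟶ G), F T' x → F T' x⁻¹) :
    ∃ _ : GrpObj W, IsMonHom i := by
  have e1 : ∃ e : 𝟙_ (Over S) ⟶ W, e ≫ i = η[G] := by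
    refine (hW _ _).2 ?_
    rwa [show (η[G] : 𝟙_ (Over S) ⟶ G) = 1 by
      rw [Hom.one_def, toUnit_unique (toUnit _) (𝟙 _), Category.id_comp]]
  have em : ∀ (T : Over S) (a b : T ⟶ W), ∃ c : T ⟶ W, c ≫ i = (a ≫ i) * (b ≫ i) := fun T a b =>
    (hW T _).2 (hm T _ _ ((hW T _).1 ⟨a, rfl⟩) ((hW T _).1 ⟨b, rfl⟩))
  have ei : ∀ (T : Over S) (a : T ⟶ W), ∃ c : T ⟶ W, c ≫ i = (a ≫ i)⁻¹ := fun T a =>
    (hW T _).2 (hinv T _ ((hW T _).1 ⟨a, rfl⟩))
  exact ⟨_, Groth.L09.GrpQuot.grpObjOfClosed_isMonHom i e1 em ei⟩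

end Groth.L25.Locus
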