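import Groth.Agent.L25.Locus.Normalizer
import Groth.Agent.L25.GrpBasics
import Groth.Agent.L25.Central

/-!
# Centralizers and normalizers of subtori
-/

set_option autoImplicit false
universe u

open CategoryTheory CategoryTheory.Limits MonoidalCategory CartesianMonoidalCategory MonObj GrpObj
open AlgebraicGeometry

set_option backward.isDefEq.respectTransparency.types false

noncomputable section

namespace Groth.L25.Locus

variable {S : Scheme.{u}}

theorem isMultTypeFT_of_isTorus {T : Over S} [GrpObj T] (h : Red.IsTorus T) : SGA3x.IsMultTypeFT T := by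
  obtain ⟨S', f, h1, h2, h3, h4⟩ := h
  refine ⟨S', f, h1, h2, h3, fun s => ?_⟩
  obtain ⟨U, hU, r, e⟩ := h4 s
  exact ⟨U, hU, _, inferInstance, AddGroup.fg_iff_addMonoid_fg.2 (Module.Finite.iff_addMonoid_fg.1 inferInstance), e⟩

/-- a group containing a closed subgroup of multiplicative type is separated -/
theorem isSeparated_of_closed_subgroup {H G : Over S} [GrpObj H] [GrpObj G] (hH : SGA3x.IsMultTypeFT H)
    (i : H ⟶ G) [IsMonHom i] [IsClosedImmersion i.left] : IsSeparated G.hom := by
  have := Central.isAffineHom_of_multTypeFT hH
  have he : η[G].left = η[H].left ≫ i.left := by rw [← Over.comp_left, IsMonHom.one_hom]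
  have : IsClosedImmersion (η[H].left ≫ H.hom) := by
    rw [GrpBasics.unit_comp_hom]; exact inferInstanceAs (IsClosedImmersion (𝟙 S))
  have : IsClosedImmersion η[H].left := IsClosedImmersion.of_comp η[H].left H.hom
  have : IsClosedImmersion η[G].left := by rw [he]; infer_instance
  exact ⟨GrpBasics.diagonal_of_unit @IsClosedImmersion G this⟩

end Groth.L25.Locus
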