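import Groth.Agent.L25.Locus.Normalizer
import Groth.Agent.L24.Boot.SmoothSection

/-!
# Conjugacy on etale neighbourhoods
-/

set_option autoImplicit false
universe u

open CategoryTheory CategoryTheory.Limits MonoidalCategory CartesianMonoidalCategory MonObj GrpObj
open AlgebraicGeometry

set_option backward.isDefEq.respectTransparency.types false

noncomputable section

namespace Groth.L25.Locus

variable {S : Scheme.{u}} {G : Over S} [GrpObj G]

section Point

variable {S' : Scheme.{u}} (f : S' ⟶ S) (x : Over.mk f ⟶ G)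

/-- a point over `f` as a section of the base change -/
def sectionOf : 𝟙_ (Over S') ⟶ Red.bc f G :=
  NilAction.ofBase f ((Over.homMk (𝟙 _) (by
    show 𝟙 _ ≫ f = 𝟙 _ ≫ f
    rfl) : Over.mk ((𝟙_ (Over S')).hom ≫ f) ⟶ Over.mk f) ≫ x)

theorem toBase_sectionOf (Y : Over S') :
    NilAction.toBase f (toUnit Y ≫ sectionOf f x) =
      (Over.homMk Y.hom rfl : Over.mk (Y.hom ≫ f) ⟶ Over.mk f) ≫ x := by
  rw [sectionOf, comp_ofBase, NilAction.toBase_ofBase, ← Category.assoc]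
  congr 1

variable {H₁ H₂ : Over S} [GrpObj H₁] [GrpObj H₂] (i₁ : H₁ ⟶ G) (i₂ : H₂ ⟶ G) [IsMonHom i₁] [IsMonHom i₂]
  [Mono i₁] [Mono i₂]

theorem exists_half {x : Over.mk f ⟶ G} (hx : Sends i₁ i₂ (Over.mk f) x) :
    ∃ φ : Red.bc f H₁ ⟶ Red.bc f H₂, φ ≫ (Over.pullback f).map i₂ =
      (toUnit _ ≫ sectionOf f x) * (Over.pullback f).map i₁ * (toUnit _ ≫ sectionOf f x)⁻¹ := by
  let Y := Red.bc f H₁
  obtain ⟨h', e⟩ := hx _ (Over.homMk Y.hom rfl : Over.mk (Y.hom ≫ f) ⟶ Over.mk f) (NilAction.toBase f (𝟙 Y))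
  refine ⟨NilAction.ofBase f h', ?_⟩
  rw [NilAction.ofBase_comp, ← e, ← toBase_sectionOf f x Y, ofBase_mul, ofBase_mul, ofBase_inv,
    NilAction.ofBase_toBase, ← NilAction.ofBase_comp, NilAction.ofBase_toBase, Category.id_comp]

theorem exists_half_back {x : Over.mk f ⟶ G} (hx : SendsBack i₁ i₂ (Over.mk f) x) :
    ∃ φ : Red.bc f H₂ ⟶ Red.bc f H₁, φ ≫ (Over.pullback f).map i₁ =
      (toUnit _ ≫ sectionOf f x)⁻¹ * (Over.pullback f).map i₂ * (toUnit _ ≫ sectionOf f x) := by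
  let Y := Red.bc f H₂
  obtain ⟨h', e⟩ := hx _ (Over.homMk Y.hom rfl : Over.mk (Y.hom ≫ f) ⟶ Over.mk f) (NilAction.toBase f (𝟙 Y))
  refine ⟨NilAction.ofBase f h', ?_⟩
  rw [NilAction.ofBase_comp, ← e, ← toBase_sectionOf f x Y, ofBase_mul, ofBase_mul, ofBase_inv,
    NilAction.ofBase_toBase, ← NilAction.ofBase_comp, NilAction.ofBase_toBase, Category.id_comp]

theorem conjBy_of_sends (h1 : Sends i₁ i₂ (Over.mk f) x) (h2 : SendsBack i₁ i₂ (Over.mk f) x) :
    SGA3x.ConjBy ((Over.pullback f).map i₁) ((Over.pullback f).map i₂) (sectionOf f x) := by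
  obtain ⟨φ, hφ⟩ := exists_half f i₁ i₂ h1
  obtain ⟨ψ, hψ⟩ := exists_half_back f i₁ i₂ h2
  refine ⟨⟨φ, ψ, (cancel_mono ((Over.pullback f).map i₁)).1 ?_,
    (cancel_mono ((Over.pullback f).map i₂)).1 ?_⟩, hφ.symm⟩
  · rw [Category.assoc, hψ, Category.id_comp, MonObj.comp_mul, MonObj.comp_mul, GrpObj.comp_inv,
      ← Category.assoc φ (toUnit _), toUnit_unique (φ ≫ toUnit _) (toUnit _), hφ]
    group
  · rw [Category.assoc, hφ, Category.id_comp, MonObj.comp_mul, MonObj.comp_mul, GrpObj.comp_inv,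
      ← Category.assoc ψ (toUnit _), toUnit_unique (ψ ≫ toUnit _) (toUnit _), hψ]
    group

end Point

theorem exists_smooth_subgroupTransporter [Smooth G.hom] [IsAffineHom G.hom] {H₁ H₂ : Over S}
    [GrpObj H₁] [GrpObj H₂] (h₁ : SGA3x.IsMultTypeFT H₁) (h₂ : SGA3x.IsMultTypeFT H₂)
    (i₁ : H₁ ⟶ G) [IsMonHom i₁] [Mono i₁] (i₂ : H₂ ⟶ G) [IsMonHom i₂] [Mono i₂] :
    ∃ (W : Over S) (i : W ⟶ G), IsClosedImmersion i.left ∧ Smooth W.hom ∧
      ∀ (T' : Over S) (x : T' ⟶ G), (∃ w, w ≫ i = x) ↔ Sends i₁ i₂ T' x ∧ SendsBack i₁ i₂ T' x := by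
  have hl₁ := locally_of_multTypeFT h₁
  have hl₂ := locally_of_multTypeFT h₂
  have := isClosedImmersion_of_mono hl₁ i₁
  have := isClosedImmersion_of_mono hl₂ i₂
  obtain ⟨W, j, hj, hl, hW⟩ := exists_subgroupTransporter hl₁ hl₂ i₁ i₂
  have : LocallyOfFinitePresentation i₁.left := by
    have := lfp_of_multTypeFT h₁
    have : LocallyOfFinitePresentation (i₁.left ≫ G.hom) := by rw [Over.w i₁]; infer_instance
    exact Groth.L20.locallyOfFinitePresentation_of_comp i₁.left G.hom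
  have : LocallyOfFinitePresentation i₂.left := by
    have := lfp_of_multTypeFT h₂
    have : LocallyOfFinitePresentation (i₂.left ≫ G.hom) := by rw [Over.w i₂]; infer_instance
    exact Groth.L20.locallyOfFinitePresentation_of_comp i₂.left G.hom
  have := hl inferInstance inferInstance
  have : Mono j := Over.mono_of_mono_left j
  exact ⟨W, j, hj, smooth_subgroupTransporter hl₁ hl₂ i₁ i₂ j hW, hW⟩

theorem exists_etale_nhd_point {W : Over S} [Smooth W.hom] (s : S) (g : Over.mk (Red.geomPt s) ⟶ W) :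
    ∃ (S' : Scheme.{u}) (e : S' ⟶ S), Etale e ∧ s ∈ Set.range e.base ∧ Nonempty (Over.mk e ⟶ W) := by
  have hs : W.hom (g.left (IsLocalRing.closedPoint _)) = s := by
    show (g.left ≫ W.hom) _ = s
    rw [Over.w g]
    show ((Spec.map _ ≫ S.fromSpecResidueField s) _ : S) = s
    rw [Scheme.Hom.comp_apply]
    exact Scheme.fromSpecResidueField_apply _ _
  obtain ⟨S', e, s', h, he, hes, hh⟩ := Groth.L24.Boot.exists_etale_nhd_section W.hom (g.left (IsLocalRing.closedPoint _))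
  exact ⟨S', e, he, ⟨s', hes.trans hs⟩, ⟨Over.homMk h hh⟩⟩

end Groth.L25.Locus
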