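import Groth.Agent.L25.Actions
import Mathlib.GroupTheory.SemidirectProduct
import Mathlib.CategoryTheory.Monoidal.Cartesian.Grp

/-!
# Semidirect products of group schemes
-/

set_option autoImplicit false
universe u

open CategoryTheory MonoidalCategory CartesianMonoidalCategory MonObj GrpObj AlgebraicGeometry Limits

set_option backward.isDefEq.respectTransparency.types false

noncomputable section

namespace Groth.L25.Semidirect

variable {S : Scheme.{u}} {Q H : Over S} [GrpObj Q] [GrpObj H] (a : AlgGrp.Action Q H)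
  (hmul : ∀ (X : Over S) (q : X ⟶ Q) (h h' : X ⟶ H),
      lift q (h * h') ≫ a.act = (lift q h ≫ a.act) * (lift q h' ≫ a.act))

/-- the action on points by automorphisms -/
def aut (X : Over S) : (X ⟶ Q) →* MulAut (X ⟶ H) where
  toFun q :=
    { toFun := fun h => lift q h ≫ a.act
      invFun := fun h => lift q⁻¹ h ≫ a.act
      left_inv := fun h => Actions.inv_act a q h
      right_inv := fun h => Actions.act_inv a q h
      map_mul' := hmul X q }
  map_one' := MulEquiv.ext fun h => Actions.one_act a h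
  map_mul' q q' := MulEquiv.ext fun h => Actions.mul_act a q q' h

/-- the semidirect product, as a scheme -/
def sd : Over S := H ⊗ Q

/-- projection on the normal factor -/
def p₁ : sd (Q := Q) (H := H) ⟶ H := fst H Q

/-- projection on the acting factor -/
def p₂ : sd (Q := Q) (H := H) ⟶ Q := snd H Q

/-- a point of the semidirect product -/
def mk {X : Over S} (h : X ⟶ H) (q : X ⟶ Q) : X ⟶ sd (Q := Q) (H := H) := lift h q

omit [GrpObj Q] [GrpObj H] in
@[simp, reassoc] theorem mk_p₁ {X : Over S} (h : X ⟶ H) (q : X ⟶ Q) : mk h q ≫ p₁ = h := lift_fst _ _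

omit [GrpObj Q] [GrpObj H] in
@[simp, reassoc] theorem mk_p₂ {X : Over S} (h : X ⟶ H) (q : X ⟶ Q) : mk h q ≫ p₂ = q := lift_snd _ _

omit [GrpObj Q] [GrpObj H] in
theorem hom_ext {X : Over S} {u v : X ⟶ sd (Q := Q) (H := H)} (h₁ : u ≫ p₁ = v ≫ p₁) (h₂ : u ≫ p₂ = v ≫ p₂) :
    u = v := CartesianMonoidalCategory.hom_ext _ _ h₁ h₂

omit [GrpObj Q] [GrpObj H] in
theorem comp_mk {X Y : Over S} (f : Y ⟶ X) (h : X ⟶ H) (q : X ⟶ Q) : f ≫ mk h q = mk (f ≫ h) (f ≫ q) :=
  comp_lift _ _ _

/-- the functor of points -/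
def presheaf : (Over S)ᵒᵖ ⥤ GrpCat.{u} where
  obj X := GrpCat.of (SemidirectProduct _ _ (aut a hmul X.unop))
  map {X Y} f := GrpCat.ofHom (X := SemidirectProduct _ _ (aut a hmul X.unop))
    { toFun := fun p => ⟨f.unop ≫ p.left, f.unop ≫ p.right⟩
      map_one' := SemidirectProduct.ext (MonObj.comp_one _) (MonObj.comp_one _)
      map_mul' := fun p q => SemidirectProduct.ext
        (by
          show f.unop ≫ (p.left * (lift p.right q.left ≫ a.act)) =
            (f.unop ≫ p.left) * (lift (f.unop ≫ p.right) (f.unop ≫ q.left) ≫ a.act)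
          rw [MonObj.comp_mul, comp_lift_assoc])
        (MonObj.comp_mul _ _ _) }
  map_id X := GrpCat.hom_ext (MonoidHom.ext fun p => SemidirectProduct.ext (Category.id_comp _) (Category.id_comp _))
  map_comp f g := GrpCat.hom_ext (MonoidHom.ext fun p =>
    SemidirectProduct.ext (Category.assoc _ _ _) (Category.assoc _ _ _))

/-- it is represented by the product -/
def rep : (presheaf a hmul ⋙ forget _).RepresentableBy (sd (Q := Q) (H := H)) where
  homEquiv {X} :=
    { toFun := fun u => (⟨u ≫ p₁, u ≫ p₂⟩ : SemidirectProduct _ _ (aut a hmul X))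
      invFun := fun (p : SemidirectProduct _ _ (aut a hmul X)) => mk p.left p.right
      left_inv := fun u => hom_ext (mk_p₁ _ _) (mk_p₂ _ _)
      right_inv := fun p => SemidirectProduct.ext (mk_p₁ _ _) (mk_p₂ _ _) }
  homEquiv_comp {X X'} f g := SemidirectProduct.ext (Category.assoc _ _ _) (Category.assoc _ _ _)

/-- the group structure -/
@[instance_reducible] def grp : GrpObj (sd (Q := Q) (H := H)) := GrpObj.ofRepresentableBy _ (presheaf a hmul) (rep a hmul)

/-- points of the semidirect product -/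
def pts (X : Over S) : letI := grp a hmul
    (X ⟶ sd (Q := Q) (H := H)) →* SemidirectProduct _ _ (aut a hmul X) :=
  letI := grp a hmul
  MonoidHom.mk' (fun u => ⟨u ≫ p₁, u ≫ p₂⟩) fun u v => by
    let α := rep a hmul
    let F := presheaf a hmul
    show α.homEquiv' (lift u v ≫ α.homEquiv'.symm (α.homEquiv' (fst _ _) * α.homEquiv' (snd _ _))) =
      α.homEquiv' u * α.homEquiv' v
    simp only [α.homEquiv'_comp, Equiv.apply_symm_apply, map_mul]
    simp only [← α.homEquiv'_comp]
    simp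

theorem mul_p₁ {X : Over S} (u v : X ⟶ sd (Q := Q) (H := H)) : letI := grp a hmul
    (u * v) ≫ p₁ = (u ≫ p₁) * (lift (u ≫ p₂) (v ≫ p₁) ≫ a.act) :=
  letI := grp a hmul
  congrArg SemidirectProduct.left (map_mul (pts a hmul X) u v)

theorem mul_p₂ {X : Over S} (u v : X ⟶ sd (Q := Q) (H := H)) : letI := grp a hmul
    (u * v) ≫ p₂ = (u ≫ p₂) * (v ≫ p₂) :=
  letI := grp a hmul
  congrArg SemidirectProduct.right (map_mul (pts a hmul X) u v)

theorem one_p₁ (X : Over S) : letI := grp a hmul
    (1 : X ⟶ sd (Q := Q) (H := H)) ≫ p₁ = 1 :=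
  letI := grp a hmul
  congrArg SemidirectProduct.left (map_one (pts a hmul X))

theorem one_p₂ (X : Over S) : letI := grp a hmul
    (1 : X ⟶ sd (Q := Q) (H := H)) ≫ p₂ = 1 :=
  letI := grp a hmul
  congrArg SemidirectProduct.right (map_one (pts a hmul X))

/-- the acting factor as a subgroup -/
def incl : Q ⟶ sd (Q := Q) (H := H) := mk 1 (𝟙 Q)

theorem comp_incl {X : Over S} (q : X ⟶ Q) : q ≫ incl (H := H) = mk 1 q := by
  rw [incl, comp_mk, MonObj.comp_one, Category.comp_id]

include hmul in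
theorem act_one {X : Over S} (q : X ⟶ Q) : lift q (1 : X ⟶ H) ≫ a.act = 1 := map_one (aut a hmul X q)

theorem isMonHom_incl : letI := grp a hmul; IsMonHom (incl (Q := Q) (H := H)) := by
  letI := grp a hmul
  refine ⟨?_, ?_⟩
  · rw [MonObj.one_eq_one, MonObj.one_eq_one, comp_incl]
    exact hom_ext (by rw [mk_p₁, one_p₁]) (by rw [mk_p₂, one_p₂])
  · rw [MonObj.mul_eq_mul, comp_incl, MonObj.mul_eq_mul, MonObj.comp_mul, tensorHom_fst, tensorHom_snd, comp_incl,
      comp_incl]
    exact hom_ext (by rw [mul_p₁, mk_p₁, mk_p₁, mk_p₁, mk_p₂, act_one a hmul, _root_.one_mul])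
      (by rw [mul_p₂, mk_p₂, mk_p₂, mk_p₂])

/-- commutation with the acting factor -/
theorem commute_incl_iff (hQ : ∀ (X : Over S) (s t : X ⟶ Q), s * t = t * s) {X : Over S}
    (g : X ⟶ sd (Q := Q) (H := H)) (h : X ⟶ Q) : letI := grp a hmul
    g * (h ≫ incl) = (h ≫ incl) * g ↔ lift h (g ≫ p₁) ≫ a.act = g ≫ p₁ := by
  letI := grp a hmul
  have e1 : (g * (h ≫ incl)) ≫ p₁ = g ≫ p₁ := by
    rw [mul_p₁, comp_incl, mk_p₁, act_one a hmul, _root_.mul_one]
  have e2 : ((h ≫ incl) * g) ≫ p₁ = lift h (g ≫ p₁) ≫ a.act := by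
    rw [mul_p₁, comp_incl, mk_p₁, mk_p₂, _root_.one_mul]
  constructor
  · intro e
    rw [← e2, ← e, e1]
  · intro e
    refine hom_ext (by rw [e1, e2, e]) ?_
    rw [mul_p₂, mul_p₂, hQ]

end Groth.L25.Semidirect
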