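import Groth.Agent.L25.Cocycle.FixedAvg
import Groth.Agent.L25.Locus.Smooth
import Groth.Agent.L25.Locus.Transporter

/-!
# Fixed points of actions of groups of multiplicative type
-/

set_option autoImplicit false
universe u

open CategoryTheory CategoryTheory.Limits MonoidalCategory CartesianMonoidalCategory MonObj GrpObj
open AlgebraicGeometry

set_option backward.isDefEq.respectTransparency.types false

noncomputable section

namespace Groth.L25.Locus

variable {S : Scheme.{u}} {H W : Over S} [GrpObj H] (a : AlgGrp.Action H W)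

/-- `x` is fixed by all points of `H` -/
def Fixed (T' : Over S) (x : T' ⟶ W) : Prop :=
  ∀ (X' : Over S) (t : X' ⟶ T') (h : X' ⟶ H), lift h (t ≫ x) ≫ a.act = t ≫ x

variable (hH : TwC.Locally S TwC.Topology.fpqc (fun S' f => ∃ (M : Type) (_ : AddCommGroup M),
  Nonempty (Grp.mk (Red.bc f H) ≅ Grp.mk (Red.DS S' M))))

include hH in
theorem exists_fixedLocus [IsSeparated W.hom] :
    ∃ (F : Over S) (i : F ⟶ W), IsClosedImmersion i.left ∧
      (LocallyOfFiniteType W.hom → LocallyOfFinitePresentation i.left) ∧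
      ∀ (T' : Over S) (x : T' ⟶ W), (∃ w, w ≫ i = x) ↔ Fixed a T' x := by
  obtain ⟨F, i, hi, hl, hF⟩ := exists_agree hH (Y := W) (lift (snd W H) (fst W H) ≫ a.act) (fst W H)
  refine ⟨F, i, hi, hl, fun T' x => (hF T' x).trans ?_⟩
  simp only [Fixed, comp_lift_assoc, lift_fst, lift_snd]

include hH in
theorem smooth_fixedLocus [Smooth W.hom] {F : Over S} (i : F ⟶ W) [Mono i]
    [LocallyOfFinitePresentation i.left]
    (hF : ∀ (T' : Over S) (x : T' ⟶ W), (∃ w, w ≫ i = x) ↔ Fixed a T' x) : Smooth F.hom := by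
  have : LocallyOfFinitePresentation F.hom := by rw [← Over.w i]; infer_instance
  refine smooth_of_formallySmooth _ fun B _ I hI a₀ b hab => ?_
  let g₀ : Over.mk (Spec.map (CommRingCat.ofHom (Ideal.Quotient.mk I)) ≫ b) ⟶ F := Over.homMk a₀ hab.symm
  obtain ⟨l, hl1, hl2⟩ := Cocycle.isFormallySmoothHom_of_smooth W.hom B I hI (a₀ ≫ i.left) b (by
    rw [Category.assoc, Over.w i]; exact hab)
  let x : Over.mk b ⟶ W := Over.homMk l hl2
  have hfix := (hF _ (g₀ ≫ i)).1 ⟨g₀, rfl⟩
  have hx : Cocycle.FixMod a I b x := by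
    intro C _ _ hC g
    let q : Cocycle.X b C ⟶ Over.mk (Spec.map (CommRingCat.ofHom (Ideal.Quotient.mk I)) ≫ b) :=
      Over.homMk (Spec.map (CommRingCat.ofHom (Ideal.Quotient.lift I (algebraMap B C) hC))) (by
        show Spec.map _ ≫ Spec.map _ ≫ b = Spec.map _ ≫ b
        rw [← Spec.map_comp_assoc, ← CommRingCat.ofHom_comp, Ideal.Quotient.lift_comp_mk])
    have e : q ≫ g₀ ≫ i = toJ b C ≫ x := by
      apply Over.OverMorphism.ext
      show Spec.map _ ≫ a₀ ≫ i.left = Spec.map _ ≫ l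
      rw [← hl1, ← Spec.map_comp_assoc, ← CommRingCat.ofHom_comp, Ideal.Quotient.lift_comp_mk]
    rw [← e]
    exact hfix _ q g
  obtain ⟨x', hx1, hx2⟩ := Cocycle.exists_fixed (x := x) (a := a) (by rw [← pow_two, hI]) hH hx
  obtain ⟨w, hw⟩ := (hF _ x').2 fun X' t h => hx2 X' t h
  refine ⟨w.left, ?_, Over.w w⟩
  let p : Over.mk (Spec.map (CommRingCat.ofHom (Ideal.Quotient.mk I)) ≫ b) ⟶ Over.mk b :=
    Over.homMk (Spec.map (CommRingCat.ofHom (Ideal.Quotient.mk I))) rfl
  have h1 := hx1 _ (𝟙 _) p (Category.id_comp _).symm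
  have h2 : p ≫ x = g₀ ≫ i := Over.OverMorphism.ext hl1
  exact congrArg (fun m => m.left) ((cancel_mono i).1 (by rw [Category.assoc, hw, h1, h2]) : p ≫ w = g₀)

end Groth.L25.Locus
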