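import Groth.Agent.L25.Locus.Semidirect
import Groth.Agent.L25.Locus.Fixed
import Groth.Agent.L25.Dyn.CentConn
import Groth.Agent.L25.SplitSub.SmoothTorus
import Groth.Agent.L25.MultTypeBC
import Groth.Agent.L25.RatConn

/-!
# Fixed points of a torus acting on a connected affine group are connected
-/

set_option autoImplicit false
universe u

open CategoryTheory CategoryTheory.Limits MonoidalCategory CartesianMonoidalCategory MonObj GrpObj
open AlgebraicGeometry

set_option backward.isDefEq.respectTransparency.types false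

noncomputable section

namespace Groth.L25.Locus

/-- tori are stable under base change -/
theorem isTorus_bc {S T : Scheme.{u}} {H : Over S} [GrpObj H] (hH : Red.IsTorus H) (g : T ⟶ S) :
    Red.IsTorus (Red.bc g H) := by
  obtain ⟨S', f, hflat, hsurj, hqc, hloc⟩ := hH
  refine ⟨pullback g f, pullback.fst g f, inferInstance, inferInstance,
    fun V hV => MultTypeBC.exists_compact_image f hqc g V hV, fun x => ?_⟩
  obtain ⟨U, hU, r, ⟨e⟩⟩ := hloc (pullback.snd g f x)
  let U' := pullback.snd g f ⁻¹ᵁ U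
  refine ⟨U', hU, r, ⟨?_⟩⟩
  refine Grp.mkIso' (ActBC.bcCompIso (U'.ι ≫ pullback.fst g f) g H rfl) ≪≫
    TrivLocus.restrictIso (U.ι ≫ f) (pullback.snd g f ∣_ U) e ?_
  rw [morphismRestrict_ι_assoc, Category.assoc, pullback.condition]

/-- a torus over a field is smooth and connected -/
theorem smooth_connected_torus {k : Type u} [Field k] {T : Over (Spec (CommRingCat.of k))} [GrpObj T]
    (hT : Red.IsTorus T) : Smooth T.hom ∧ ConnectedSpace T.left := by
  obtain ⟨K, _, _, r, ⟨e⟩⟩ := Dyn.exists_field_split hT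
  let θ := Spec.map (CommRingCat.ofHom (algebraMap k K))
  let S' := Spec (CommRingCat.of K)
  haveI : Surjective θ := ⟨fun x => ⟨(default : PrimeSpectrum K), Subsingleton.elim (α := PrimeSpectrum k) _ _⟩⟩
  haveI : Flat θ := (HasRingHomProperty.Spec_iff (P := @Flat)).2 (RingHom.flat_algebraMap_iff.2 inferInstance)
  let D := Red.DS S' (Fin r → ℤ)
  haveI : Smooth D.hom := SplitSub.smooth_DS S' r
  haveI : IsIso e.hom.hom.hom := ⟨e.inv.hom.hom, congr($(e.hom_inv_id).hom.hom), congr($(e.inv_hom_id).hom.hom)⟩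
  haveI : IsIso e.hom.hom.hom.left := inferInstanceAs (IsIso ((Over.forget _).map e.hom.hom.hom))
  have h1 : Smooth (Red.bc θ T).hom := by
    rw [← Over.w e.hom.hom.hom]
    infer_instance
  refine ⟨MorphismProperty.of_pullback_snd_of_descendsAlong (P := @Smooth)
    (Q := @Surjective ⊓ @Flat ⊓ @QuasiCompact) (f := T.hom) (g := θ) ⟨⟨inferInstance, inferInstance⟩, inferInstance⟩ h1, ?_⟩
  haveI : ConnectedSpace (pullback D.hom (S'.fromSpecResidueField (default : PrimeSpectrum K)) : Scheme.{u}) :=
    SplitSub.connectedSpace_DS_fibre S' r _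
  haveI : ConnectedSpace D.left := by
    refine (show Function.Surjective (pullback.fst D.hom (S'.fromSpecResidueField (default : PrimeSpectrum K))) from
      fun z => ?_).connectedSpace (Scheme.Hom.continuous _)
    rw [← Set.mem_range, Scheme.Pullback.range_fst, Set.mem_preimage, Scheme.range_fromSpecResidueField]
    exact Subsingleton.elim (α := PrimeSpectrum K) _ _
  have hs : Function.Surjective (e.inv.hom.hom.left ≫ pullback.fst T.hom θ) := by
    haveI : IsIso e.inv.hom.hom := ⟨e.hom.hom.hom, congr($(e.inv_hom_id).hom.hom), congr($(e.hom_inv_id).hom.hom)⟩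
    haveI : IsIso e.inv.hom.hom.left := inferInstanceAs (IsIso ((Over.forget _).map e.inv.hom.hom))
    exact Scheme.Hom.surjective _
  exact hs.connectedSpace (Scheme.Hom.continuous _)

/-- the fixed points of a torus acting by automorphisms on a smooth connected affine group -/
theorem connectedSpace_fixed {k : Type u} [Field k] {Q H : Over (Spec (CommRingCat.of k))} [GrpObj Q] [GrpObj H]
    (hQ : Red.IsTorus Q) [IsAffine H.left] [Smooth H.hom] [ConnectedSpace H.left] (a : AlgGrp.Action Q H)
    (hmul : ∀ (X : Over (Spec (CommRingCat.of k))) (q : X ⟶ Q) (h h' : X ⟶ H),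
      lift q (h * h') ≫ a.act = (lift q h ≫ a.act) * (lift q h' ≫ a.act))
    {F : Over (Spec (CommRingCat.of k))} (f : F ⟶ H) [Mono f]
    (hF : ∀ (X : Over (Spec (CommRingCat.of k))) (h : X ⟶ H), (∃ x : X ⟶ F, x ≫ f = h) ↔
        ∀ (X' : Over (Spec (CommRingCat.of k))) (g : X' ⟶ X) (q : X' ⟶ Q), lift q (g ≫ h) ≫ a.act = g ≫ h) :
    ConnectedSpace F.left := by
  have hM := isMultTypeFT_of_isTorus hQ
  haveI : IsAffineHom Q.hom := Central.isAffineHom_of_multTypeFT hM
  obtain ⟨hQs, hQc⟩ := smooth_connected_torus hQ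
  haveI := hQs
  haveI := hQc
  haveI : GeometricallyConnected Q.hom :=
    RatConn.geometricallyConnected_of_section _ η[Q].left (GrpBasics.unit_comp_hom Q)
  letI := Semidirect.grp a hmul
  let W := Semidirect.sd (Q := Q) (H := H)
  haveI : IsAffine W.left := by
    haveI : IsAffine Q.left := isAffine_of_isAffineHom Q.hom
    exact inferInstanceAs (IsAffine (pullback H.hom Q.hom))
  haveI : Smooth W.hom := inferInstanceAs (Smooth (pullback.fst H.hom Q.hom ≫ H.hom))
  haveI : ConnectedSpace W.left := inferInstanceAs (ConnectedSpace ↥(pullback H.hom Q.hom))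
  haveI := Semidirect.isMonHom_incl a hmul
  let C := F ⊗ Q
  let c : C ⟶ W := Semidirect.mk (fst F Q ≫ f) (snd F Q)
  haveI : Mono c := ⟨fun u v h => by
    have h1 := congrArg (fun z => z ≫ Semidirect.p₁) h
    have h2 := congrArg (fun z => z ≫ Semidirect.p₂) h
    simp only [c, Category.assoc, Semidirect.mk_p₁, Semidirect.mk_p₂] at h1 h2
    exact CartesianMonoidalCategory.hom_ext _ _
      ((cancel_mono f).1 (by simpa only [Category.assoc] using h1)) h2⟩
  have hC : ConnectedSpace C.left := by
    refine Dyn.connectedSpace_centralizer' W Q Semidirect.incl hQ C c fun X g => ?_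
    simp only [Semidirect.commute_incl_iff a hmul (fun X s t => Central.mul_comm_of_multTypeFT hM s t)]
    simp only [Category.assoc]
    rw [← hF]
    constructor
    · rintro ⟨z, rfl⟩
      exact ⟨z ≫ fst F Q, by simp [c]⟩
    · rintro ⟨x, hx⟩
      refine ⟨lift x (g ≫ Semidirect.p₂), Semidirect.hom_ext ?_ ?_⟩
      · simp [c, hx]
      · simp [c]
  let s : F ⟶ C := lift (𝟙 F) 1
  have hs : Function.Surjective (fst F Q).left := fun z => ⟨s.left z, by
    rw [← Scheme.Hom.comp_apply, ← Over.comp_left, lift_fst]; rfl⟩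
  exact hs.connectedSpace (Scheme.Hom.continuous _)

/-- connected fibres of the fixed points -/
theorem isConnected_fibre_fixed {S : Scheme.{u}} {Q H : Over S} [GrpObj Q] [GrpObj H] (hQ : Red.IsTorus Q)
    [IsAffineHom H.hom] [Smooth H.hom] (a : AlgGrp.Action Q H)
    (hmul : ∀ (X : Over S) (q : X ⟶ Q) (h h' : X ⟶ H),
      lift q (h * h') ≫ a.act = (lift q h ≫ a.act) * (lift q h' ≫ a.act))
    {F : Over S} (f : F ⟶ H) [Mono f]
    (hF : ∀ (X : Over S) (h : X ⟶ H), (∃ x : X ⟶ F, x ≫ f = h) ↔
        ∀ (X' : Over S) (g : X' ⟶ X) (q : X' ⟶ Q), lift q (g ≫ h) ≫ a.act = g ≫ h)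
    (s : S) (hs : _root_.IsConnected (H.hom.base ⁻¹' {s})) : _root_.IsConnected (F.hom.base ⁻¹' {s}) := by
  let g : Spec (CommRingCat.of (S.residueField s)) ⟶ S := S.fromSpecResidueField s
  let adj := Over.mapPullbackAdj g
  haveI : IsAffine (Red.bc g H).left := inferInstanceAs (IsAffine (pullback H.hom g))
  haveI : Smooth (Red.bc g H).hom := inferInstanceAs (Smooth (pullback.snd H.hom g))
  haveI : ConnectedSpace (Red.bc g H).left := by
    haveI : ConnectedSpace (H.hom.base ⁻¹' {s}) := isConnected_iff_connectedSpace.1 hs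
    exact (H.hom.fiberHomeo s).symm.surjective.connectedSpace (H.hom.fiberHomeo s).symm.continuous
  haveI : Mono ((Over.pullback g).map f) := inferInstance
  have hmul' : ∀ (X : Over _) (q : X ⟶ Red.bc g Q) (h h' : X ⟶ Red.bc g H),
      lift q (h * h') ≫ (a.bc g).act = (lift q h ≫ (a.bc g).act) * (lift q h' ≫ (a.bc g).act) := by
    intro X q h h'
    obtain ⟨q, rfl⟩ := (adj.homEquiv X Q).surjective q
    obtain ⟨h, rfl⟩ := (adj.homEquiv X H).surjective h
    obtain ⟨h', rfl⟩ := (adj.homEquiv X H).surjective h'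
    rw [← AlgGrp.Action.homEquiv_mul, AlgGrp.Action.lift_homEquiv_bc_act, hmul, AlgGrp.Action.homEquiv_mul,
      ← AlgGrp.Action.lift_homEquiv_bc_act, ← AlgGrp.Action.lift_homEquiv_bc_act]
  have hF' : ∀ (X : Over _) (h : X ⟶ Red.bc g H), (∃ x : X ⟶ Red.bc g F, x ≫ (Over.pullback g).map f = h) ↔
      ∀ (X' : Over _) (g' : X' ⟶ X) (q : X' ⟶ Red.bc g Q), lift q (g' ≫ h) ≫ (a.bc g).act = g' ≫ h := by
    intro X h
    obtain ⟨h, rfl⟩ := (adj.homEquiv X H).surjective h
    constructor
    · rintro ⟨x, hx⟩ X' g' q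
      obtain ⟨x, rfl⟩ := (adj.homEquiv X F).surjective x
      rw [← Adjunction.homEquiv_naturality_right] at hx
      obtain ⟨q, rfl⟩ := (adj.homEquiv X' Q).surjective q
      rw [← Adjunction.homEquiv_naturality_left, AlgGrp.Action.lift_homEquiv_bc_act]
      exact congrArg _ ((hF _ _).1 ⟨x, (adj.homEquiv X H).injective hx⟩ _ ((Over.map g).map g') q)
    · intro hh
      obtain ⟨x, hx⟩ := (hF _ h).2 fun X'' g₀ q => by
        let X' : Over (Spec (CommRingCat.of (S.residueField s))) := Over.mk (g₀.left ≫ X.hom)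
        let g' : X' ⟶ X := Over.homMk g₀.left rfl
        have hw : X''.hom = (g₀.left ≫ X.hom) ≫ g := ((Over.w g₀).symm.trans (Category.assoc _ _ _).symm)
        let j : X'' ⟶ (Over.map g).obj X' := Over.homMk (𝟙 _) ((Category.id_comp _).trans hw.symm)
        let q₀ : (Over.map g).obj X' ⟶ Q := Over.homMk q.left ((Over.w q).trans hw)
        have h1 := hh X' g' (adj.homEquiv X' Q q₀)
        rw [← Adjunction.homEquiv_naturality_left, AlgGrp.Action.lift_homEquiv_bc_act] at h1
        have h2 := congrArg (j ≫ ·) ((adj.homEquiv X' H).injective h1)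
        simp only [← Category.assoc, comp_lift] at h2
        rw [show j ≫ q₀ = q from Over.OverMorphism.ext (Category.id_comp _),
          show j ≫ (Over.map g).map g' = g₀ from Over.OverMorphism.ext (Category.id_comp _)] at h2
        exact h2
      exact ⟨adj.homEquiv X F x, by rw [← Adjunction.homEquiv_naturality_right, hx]⟩
  have hc := connectedSpace_fixed (isTorus_bc hQ g) (a.bc g) hmul' ((Over.pullback g).map f) hF'
  haveI : ConnectedSpace (F.hom.fiber s) := hc
  rw [← F.hom.range_fiberι s]
  exact isConnected_range (F.hom.fiberι s).continuous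

end Groth.L25.Locus
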