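import Groth.Agent.L25.Dyn.TorsionDense
import Groth.Agent.L25.Dyn.CentConn
import Groth.Agent.L25.Locus.FixedConn
import Groth.Agent.L25.Bridge.MultType
import Groth.Agent.L25.ConjAction
import Groth.Agent.L25.GrpDeriv
import Groth.Agent.L08.AffHull.AntiAffine
import Groth.Agent.L08.AffHull.Smooth
import Groth.Agent.L08.Centre.Rigid
import Groth.Agent.L08.MulEtaleBC
import Groth.Agent.L08.FactorLocus
import Groth.Agent.L26.AV.SmoothField
import Mathlib.Topology.Separation.Connected

/-!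
# Centralizers of tori in connected algebraic groups
-/

set_option autoImplicit false
universe u

open CategoryTheory CategoryTheory.Limits MonoidalCategory CartesianMonoidalCategory MonObj GrpObj
open AlgebraicGeometry TensorProduct WithConv

set_option backward.isDefEq.respectTransparency.types false

noncomputable section

namespace Groth.L25.Locus

open Groth.L08

variable {k : Type u} [Field k] [IsAlgClosed k]

local notation "S₀" => Spec (CommRingCat.of k)

/-- rational points are determined by their image -/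
theorem point_ext {X : Over S₀} [LocallyOfFiniteType X.hom] {a b : 𝟙_ (Over S₀) ⟶ X}
    (h : a.left (IsLocalRing.closedPoint k) = b.left (IsLocalRing.closedPoint k)) : a = b := by
  ext1
  exact ext_of_apply_closedPoint_eq X.hom (Over.w a) (Over.w b) h

/-- a rational point through a closed point -/
theorem exists_point {X : Over S₀} [LocallyOfFiniteType X.hom] {x : X.left} (hx : IsClosed {x}) :
    ∃ a : 𝟙_ (Over S₀) ⟶ X, a.left (IsLocalRing.closedPoint k) = x :=
  ⟨Over.homMk _ ((pointEquivClosedPoint X.hom).symm ⟨x, hx⟩).2,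
    congrArg Subtype.val ((pointEquivClosedPoint X.hom).apply_symm_apply ⟨x, hx⟩)⟩

/-- an object over itself -/
def selfIso {X : Scheme.{u}} (f : X ⟶ X) (h : f = 𝟙 X) : Over.mk f ≅ Over.mk (𝟙 X) :=
  Over.isoMk (Iso.refl X) ((Category.id_comp _).trans h.symm)

variable (k) in
omit [IsAlgClosed k] in
theorem specMap_self : Spec.map (CommRingCat.ofHom (algebraMap k k)) = 𝟙 S₀ := by
  rw [Algebra.algebraMap_self, CommRingCat.ofHom_id, Spec.map_id]

variable (k) in
/-- the point as an affine scheme over itself -/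
def unitIso : 𝟙_ (Over S₀) ≅ (Spec (CommRingCat.of k)).asOver S₀ :=
  (selfIso _ (specMap_self k)).symm

/-- two maps from a torus into a separated scheme agreeing at torsion points of order prime to the
characteristic are equal -/
theorem hom_ext_torsion {T G : Over S₀} [GrpObj T] (hT : Red.IsTorus T) [IsSeparated G.hom] (a b : T ⟶ G)
    (h : ∀ (q : ℕ) (t : 𝟙_ (Over S₀) ⟶ T), 0 < q → (q : k) ≠ 0 → t ^ q = 1 → t ≫ a = t ≫ b) : a = b := by
  have hM := isMultTypeFT_of_isTorus hT
  haveI : IsAffineHom T.hom := Central.isAffineHom_of_multTypeFT hM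
  haveI : IsAffine T.left := isAffine_of_isAffineHom T.hom
  obtain ⟨hTs, hTc⟩ := smooth_connected_torus hT
  haveI := hTs
  obtain ⟨B, _, _, ⟨eT⟩⟩ := Bridge.exists_hopf T
  let jT : T ⟶ Bridge.P k B := eT.hom.hom.hom
  let iT : Bridge.P k B ⟶ T := eT.inv.hom.hom
  have hji : jT ≫ iT = 𝟙 T := congr($(eT.hom_inv_id).hom.hom)
  have hij : iT ≫ jT = 𝟙 _ := congr($(eT.inv_hom_id).hom.hom)
  haveI : IsMonHom iT := eT.inv.hom.isMonHom_hom
  haveI : IsIso iT := ⟨jT, hij, hji⟩
  haveI : IsIso iT.left := inferInstanceAs (IsIso ((Over.forget _).map iT))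
  haveI : Algebra.FiniteType k B := by
    have h : LocallyOfFiniteType (Bridge.P k B).hom := by rw [← Over.w iT]; infer_instance
    change LocallyOfFiniteType (Spec.map (CommRingCat.ofHom (algebraMap k B))) at h
    rw [HasRingHomProperty.Spec_iff (P := @LocallyOfFiniteType), CommRingCat.hom_ofHom,
      RingHom.finiteType_algebraMap] at h
    exact h
  haveI : IsDomain B := by
    obtain ⟨K, _, _, r, ⟨eK⟩⟩ := Dyn.exists_field_split hT
    let θ := Spec.map (CommRingCat.ofHom (algebraMap k K))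
    obtain ⟨d⟩ : Nonempty ((K ⊗[k] B) ≃ₐc[K] MonoidAlgebra K (Multiplicative (Fin r → ℤ))) :=
      Bridge.exists_bialgEquiv ((Bridge.dsIso K (Fin r → ℤ)).symm ≪≫ eK.symm ≪≫
        (Over.pullback θ).mapGrp.mapIso eT ≪≫ Bridge.bcIso k B K)
    haveI : IsDomain (MonoidAlgebra K (Multiplicative (Fin r → ℤ))) := NoZeroDivisors.to_isDomain _
    haveI : IsDomain (K ⊗[k] B) := d.toAlgEquiv.toMulEquiv.isDomain _
    exact Function.Injective.isDomain (Algebra.TensorProduct.includeRight : B →ₐ[k] K ⊗[k] B).toRingHom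
      (Algebra.TensorProduct.includeRight_injective (algebraMap k K).injective)
  have hB : SGA3b.IsMultType k B := by
    refine Bridge.isMultType_of_locally B (Bridge.locally_of_iso eT ?_)
    obtain ⟨S', f, h1, h2, h3, h4⟩ := hT
    refine ⟨S', f, h1, h2, h3, fun s => ?_⟩
    obtain ⟨U, hU, r, e⟩ := h4 s
    exact ⟨U, hU, _, inferInstance, e⟩
  let E := pullback (pullback.lift (iT ≫ a).left (iT ≫ b).left ((Over.w (iT ≫ a)).trans (Over.w (iT ≫ b)).symm))
    (pullback.diagonal G.hom)
  let e : E ⟶ Spec (CommRingCat.of B) := pullback.fst _ _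
  haveI : IsClosedImmersion e := inferInstanceAs (IsClosedImmersion (pullback.fst _ _))
  have hsurj : Set.range e = Set.univ := by
    obtain ⟨s, hs⟩ := (PrimeSpectrum.isClosed_iff_zeroLocus _).1 e.isClosedEmbedding.isClosed_range
    have hs0 : ∀ f ∈ s, f = 0 := by
      intro f hf
      by_contra hne
      obtain ⟨q, x, hq, hq0, hx, hxf⟩ := Dyn.exists_torsion_point hB hne
      let xP : (Spec (CommRingCat.of k)).asOver S₀ ⟶ Bridge.P k B := Spec.mapMulEquiv x
      let o : 𝟙_ (Over S₀) ⟶ (Spec (CommRingCat.of k)).asOver S₀ := (unitIso k).hom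
      have hpow : (o ≫ xP ≫ iT) ^ q = 1 := by
        rw [← MonObj.comp_pow, ← MonObj.pow_comp, ← map_pow, hx, map_one, MonObj.one_comp, MonObj.comp_one]
      have h0 := h q _ hq hq0 hpow
      simp only [Category.assoc] at h0
      have h1 := congrArg (fun m => m.left) ((cancel_epi o).1 h0)
      have hmem : xP.left (IsLocalRing.closedPoint k) ∈ Set.range e := by
        let w : Spec (CommRingCat.of k) ⟶ E := pullback.lift xP.left (xP.left ≫ (iT ≫ a).left) (by
          apply pullback.hom_ext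
          · simp only [Category.assoc, pullback.lift_fst, pullback.diagonal_fst, Category.comp_id]
          · simp only [Category.assoc, pullback.lift_snd, pullback.diagonal_snd, Category.comp_id]
            exact h1.symm)
        exact ⟨w (IsLocalRing.closedPoint k), congrArg (fun m : Spec (CommRingCat.of k) ⟶ Spec (CommRingCat.of B) => m (IsLocalRing.closedPoint k)) (pullback.lift_fst _ _ _ : w ≫ e = xP.left)⟩
      rw [hs] at hmem
      have h3 : x.ofConv f ∈ (IsLocalRing.closedPoint k).asIdeal :=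
        (PrimeSpectrum.mem_zeroLocus _ _).1 hmem hf
      rw [show (IsLocalRing.closedPoint k).asIdeal = ⊥ from
        IsLocalRing.maximalIdeal_eq_bot, Ideal.mem_bot] at h3
      exact hxf h3
    rw [hs]
    exact Set.eq_univ_of_forall fun p => (PrimeSpectrum.mem_zeroLocus _ _).2 fun f hf => by
      rw [hs0 f hf]; exact p.asIdeal.zero_mem
  haveI : Surjective e := ⟨Set.range_eq_univ.1 hsurj⟩
  haveI : IsReduced (Spec (CommRingCat.of B)) := inferInstance
  haveI : IsIso e := isIso_of_isClosedImmersion_of_surjective e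
  rw [← cancel_epi iT]
  ext1
  refine (cancel_epi e).1 ?_
  have hc := pullback.condition (f := pullback.lift (iT ≫ a).left (iT ≫ b).left
    ((Over.w (iT ≫ a)).trans (Over.w (iT ≫ b)).symm)) (g := pullback.diagonal G.hom)
  have h1 := congrArg (· ≫ pullback.fst G.hom G.hom) hc
  have h2 := congrArg (· ≫ pullback.snd G.hom G.hom) hc
  simp only [Category.assoc, pullback.lift_fst, pullback.lift_snd, pullback.diagonal_fst,
    pullback.diagonal_snd, Category.comp_id] at h1 h2
  exact h1.trans h2.symm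

/-- smoothness of reduced groups -/
theorem smooth_of_reduced (Q : Over S₀) [GrpObj Q] [LocallyOfFiniteType Q.hom] [IsReduced Q.left] : Smooth Q.hom :=
  haveI : GrpObj (Over.mk Q.hom) := ‹GrpObj Q›
  GrpDeriv.smooth_of_isReduced_of_isAlgClosed Q.hom

/-- preimages of connected closed sets under an open surjective homomorphism with connected kernel -/
theorem isPreconnected_preimage_of_kernel {G Q N : Over S₀} [GrpObj G] [GrpObj Q] [GrpObj N]
    [LocallyOfFiniteType G.hom] [LocallyOfFiniteType Q.hom] [ConnectedSpace N.left]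
    (ρ : G ⟶ Q) [IsMonHom ρ] [Surjective ρ.left] (hopen : IsOpenMap ρ.left) (n : N ⟶ G) [IsMonHom n]
    (sq : AlgGrp.IsKernel n ρ) {R : Set Q.left} (hR : IsClosed R) (hRc : _root_.IsPreconnected R) :
    _root_.IsPreconnected (ρ.left ⁻¹' R) := by
  haveI : JacobsonSpace G.left := LocallyOfFiniteType.jacobsonSpace G.hom
  haveI : JacobsonSpace Q.left := LocallyOfFiniteType.jacobsonSpace Q.hom
  intro U V hU hV hUV hZU hZV
  by_contra hcon
  obtain ⟨y, hyR, hyU, hyV⟩ := hRc (ρ.left '' U) (ρ.left '' V) (hopen U hU) (hopen V hV)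
    (fun y hy => by
      obtain ⟨z, rfl⟩ := ρ.left.surjective y
      exact (hUV hy).imp (fun h => ⟨z, h, rfl⟩) (fun h => ⟨z, h, rfl⟩))
    (by obtain ⟨z, hz, hzU⟩ := hZU; exact ⟨_, hz, z, hzU, rfl⟩)
    (by obtain ⟨z, hz, hzV⟩ := hZV; exact ⟨_, hz, z, hzV, rfl⟩)
  obtain ⟨y, ⟨hyR, hyU, hyV⟩, hyc⟩ := nonempty_inter_closedPoints
    (Z := R ∩ (ρ.left '' U ∩ ρ.left '' V)) ⟨y, hyR, hyU, hyV⟩
    (hR.isLocallyClosed.inter ((hopen U hU).inter (hopen V hV)).isLocallyClosed)
  have hfc : IsClosed (ρ.left ⁻¹' {y}) := IsClosed.preimage ρ.left.continuous hyc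
  obtain ⟨zU, hzU, hzUy⟩ := hyU
  obtain ⟨zV, hzV, hzVy⟩ := hyV
  obtain ⟨za, ⟨hzay, hzaU⟩, hzac⟩ := nonempty_inter_closedPoints (Z := ρ.left ⁻¹' {y} ∩ U)
    ⟨zU, hzUy, hzU⟩ (hfc.isLocallyClosed.inter hU.isLocallyClosed)
  obtain ⟨zb, ⟨hzby, hzbV⟩, hzbc⟩ := nonempty_inter_closedPoints (Z := ρ.left ⁻¹' {y} ∩ V)
    ⟨zV, hzVy, hzV⟩ (hfc.isLocallyClosed.inter hV.isLocallyClosed)
  obtain ⟨ga, hga⟩ := exists_point hzac
  obtain ⟨gb, hgb⟩ := exists_point hzbc
  have hab : ga ≫ ρ = gb ≫ ρ := by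
    apply point_ext
    simp only [Over.comp_left, Scheme.Hom.comp_apply, hga, hgb]
    exact hzay.trans hzby.symm
  obtain ⟨nb, hnb⟩ : ∃ nb : 𝟙_ (Over S₀) ⟶ N, nb ≫ n = ga⁻¹ * gb :=
    ⟨sq.lift (ga⁻¹ * gb) (𝟙 _) (by
      rw [MonObj.mul_comp, GrpObj.inv_comp, hab, inv_mul_cancel, Category.id_comp, Hom.one_def,
        toUnit_unique (toUnit (𝟙_ (Over S₀))) (𝟙 _), Category.id_comp]), sq.lift_fst _ _ _⟩
  let tr : N ⟶ G := (toUnit N ≫ ga) * n
  have htr : ∀ z, tr.left z ∈ ρ.left ⁻¹' {y} := by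
    intro z
    have e : tr ≫ ρ = toUnit N ≫ (ga ≫ ρ) := by
      rw [MonObj.mul_comp, Category.assoc, sq.w, ← Hom.one_def, _root_.mul_one]
    show (tr ≫ ρ).left z = y
    rw [e]
    simp only [Over.comp_left, Scheme.Hom.comp_apply]
    rw [show (toUnit N).left z = IsLocalRing.closedPoint k from Subsingleton.elim (α := PrimeSpectrum k) _ _, hga]
    exact hzay
  have hya : za ∈ Set.range tr.left := by
    refine ⟨η[N].left (IsLocalRing.closedPoint k), ?_⟩
    have e : η[N] ≫ tr = ga := by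
      rw [MonObj.comp_mul, ← Category.assoc, toUnit_unique (η[N] ≫ toUnit N) (𝟙 _), Category.id_comp,
        IsMonHom.one_hom, MonObj.one_eq_one, _root_.mul_one]
    rw [← Scheme.Hom.comp_apply, ← Over.comp_left, e, hga]
  have hyb : zb ∈ Set.range tr.left := by
    refine ⟨nb.left (IsLocalRing.closedPoint k), ?_⟩
    have e : nb ≫ tr = gb := by
      rw [MonObj.comp_mul, ← Category.assoc, toUnit_unique (nb ≫ toUnit N) (𝟙 _), Category.id_comp,
        hnb, mul_inv_cancel_left]
    rw [← Scheme.Hom.comp_apply, ← Over.comp_left, e, hgb]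
  obtain ⟨z, hz, hzUV⟩ := (isConnected_range tr.left.continuous).isPreconnected U V hU hV
    (fun z hz => by
      obtain ⟨w, rfl⟩ := hz
      refine hUV ?_
      show ρ.left (tr.left w) ∈ R
      rw [show ρ.left (tr.left w) = y from htr w]
      exact hyR)
    ⟨za, hya, hzaU⟩ ⟨zb, hyb, hzbV⟩
  obtain ⟨w, rfl⟩ := hz
  refine hcon ⟨_, ?_, hzUV⟩
  show ρ.left (tr.left w) ∈ R
  rw [show ρ.left (tr.left w) = y from htr w]
  exact hyR

/-- a preconnected discrete set has at most one point -/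
theorem subsingleton_of_discrete {X : Type*} [TopologicalSpace X] {s : Set X} (h : _root_.IsPreconnected s)
    (hd : IsDiscrete s) : s.Subsingleton := by
  haveI := Subtype.preconnectedSpace h
  haveI : DiscreteTopology s := hd.to_subtype
  haveI : Subsingleton s := PreconnectedSpace.trivial_of_discrete
  exact fun a ha b hb => congrArg Subtype.val (Subsingleton.elim (⟨a, ha⟩ : s) ⟨b, hb⟩)

/-- on a connected subscheme mapping to the centralizer in the quotient by a central connected kernel,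
torsion points of the torus commute with rational points -/
theorem commute_torsion {G Q N P T : Over S₀} [GrpObj G] [GrpObj Q] [GrpObj N] [GrpObj T]
    [LocallyOfFiniteType N.hom] [QuasiCompact N.hom] [Smooth N.hom] [IsCommMonObj N]
    (ρ : G ⟶ Q) [IsMonHom ρ] (n : N ⟶ G) [IsMonHom n] [Mono n] (sq : AlgGrp.IsKernel n ρ)
    (hcen : ∀ (X : Over S₀) (y : X ⟶ N) (g : X ⟶ G), (y ≫ n) * g = g * (y ≫ n))
    (j : T ⟶ G) [IsMonHom j] (p : P ⟶ G) [PreconnectedSpace P.left]
    (hcomρ : ∀ (X' : Over S₀) (x : X' ⟶ P) (h : X' ⟶ T),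
      (x ≫ p ≫ ρ) * (h ≫ j ≫ ρ) = (h ≫ j ≫ ρ) * (x ≫ p ≫ ρ))
    {eP xP : 𝟙_ (Over S₀) ⟶ P} (heP : eP ≫ p = 1) {g₀ : 𝟙_ (Over S₀) ⟶ G} (hg : xP ≫ p = g₀)
    {q : ℕ} (t : 𝟙_ (Over S₀) ⟶ T) (hq0 : (q : k) ≠ 0) (htq : t ^ q = 1) :
    g₀ * (t ≫ j) = (t ≫ j) * g₀ := by
  let t₀ : P ⟶ G := toUnit P ≫ t ≫ j
  let e₀ : P ⟶ G := p * t₀ * p⁻¹ * t₀⁻¹
  have he₀ : e₀ ≫ ρ = 1 := by
    have h1 := hcomρ P (𝟙 _) (toUnit P ≫ t)
    simp only [Category.id_comp, Category.assoc] at h1
    simp only [e₀, t₀, MonObj.mul_comp, GrpObj.inv_comp, Category.assoc]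
    rw [h1, mul_inv_cancel_right, mul_inv_cancel]
  obtain ⟨nt, hnt⟩ : ∃ nt : P ⟶ N, nt ≫ n = e₀ :=
    ⟨sq.lift e₀ (toUnit P) (by rw [he₀, Hom.one_def]), sq.lift_fst _ _ _⟩
  have htq' : t₀ ^ q = 1 := by
    simp only [t₀]
    rw [← MonObj.comp_pow, ← MonObj.pow_comp, htq, MonObj.one_comp, MonObj.comp_one]
  have hconj : p * t₀ * p⁻¹ = e₀ * t₀ := by simp only [e₀, inv_mul_cancel_right]
  have hcomm : Commute e₀ t₀ := by rw [← hnt]; exact hcen _ nt t₀
  have heq : e₀ ^ q = 1 := by
    have h2 : (p * t₀ * p⁻¹) ^ q = 1 := by rw [conj_pow, htq', _root_.mul_one, mul_inv_cancel]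
    rwa [hconj, hcomm.mul_pow, htq', _root_.mul_one] at h2
  have hnq : nt ^ q = 1 := by
    rw [← cancel_mono n, MonObj.pow_comp, hnt, heq, MonObj.one_comp]
  let f : N ⟶ N := 𝟙 N ^ (q : ℤ)
  haveI : Etale f.left := MulEtale.etale_pow N (q : ℤ) (by simpa using hq0)
  have hfr : ∀ z, nt.left z ∈ f.left ⁻¹' {(1 : 𝟙_ (Over S₀) ⟶ N).left (IsLocalRing.closedPoint k)} := by
    intro z
    show f.left (nt.left z) = _
    have e : nt ≫ f = toUnit P ≫ (1 : 𝟙_ (Over S₀) ⟶ N) := by
      simp only [f]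
      rw [zpow_natCast, MonObj.comp_pow, Category.comp_id, hnq, MonObj.comp_one]
    rw [← Scheme.Hom.comp_apply, ← Over.comp_left, e]
    show (1 : 𝟙_ (Over S₀) ⟶ N).left ((toUnit P).left z) = _
    rw [show (toUnit P).left z = IsLocalRing.closedPoint k from Subsingleton.elim (α := PrimeSpectrum k) _ _]
  have hsub : (Set.range nt.left).Subsingleton :=
    subsingleton_of_discrete (isPreconnected_range nt.left.continuous)
      ((f.left.isDiscrete_preimage_singleton _).mono (Set.range_subset_iff.2 hfr))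
  have hnx : xP ≫ nt = eP ≫ nt := point_ext (hsub ⟨_, rfl⟩ ⟨_, rfl⟩)
  have h3 := hnx =≫ n
  have hP0 : ∀ y : 𝟙_ (Over S₀) ⟶ P, (y ≫ nt) ≫ n = (y ≫ p) * (t ≫ j) * (y ≫ p)⁻¹ * (t ≫ j)⁻¹ := by
    intro y
    rw [Category.assoc, hnt]
    simp only [e₀, t₀, MonObj.comp_mul, GrpObj.comp_inv, ← Category.assoc,
      toUnit_unique (y ≫ toUnit P) (𝟙 _), Category.id_comp]
  rw [hP0, hP0, heP, hg, _root_.one_mul, inv_one, _root_.mul_one, mul_inv_cancel, mul_inv_eq_one,
    mul_inv_eq_iff_eq_mul] at h3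
  exact h3

/-- the centralizer of a torus in a smooth connected group is smooth and connected -/
theorem centralizer_smooth_connected (G : Over S₀) [GrpObj G] [Smooth G.hom] [QuasiCompact G.hom]
    [ConnectedSpace G.left] (T : Over S₀) [GrpObj T] (j : T ⟶ G) [IsMonHom j] (hT : Red.IsTorus T)
    (C : Over S₀) [GrpObj C] (c : C ⟶ G) (hC : Red.IsCentralizerOf j c) :
    Smooth C.hom ∧ ConnectedSpace C.left := by
  obtain ⟨-, hcm, hC⟩ := hC
  haveI := hcm
  haveI : IsSeparated G.hom := AbelianGrp.isSeparated G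
  have hTl : TwC.Locally S₀ TwC.Topology.fpqc (fun S' f => ∃ (M : Type) (_ : AddCommGroup M),
      Nonempty (Grp.mk (Red.bc f T) ≅ Grp.mk (Red.DS S' M))) := by
    obtain ⟨S', f, h1, h2, h3, h4⟩ := hT
    refine ⟨S', f, h1, h2, h3, fun s => ?_⟩
    obtain ⟨U, hU, r, e⟩ := h4 s
    exact ⟨U, hU, _, inferInstance, e⟩
  obtain ⟨F, i, hi, hl, hF⟩ := exists_fixedLocus (ConjAction.conj j) hTl
  haveI := hi
  haveI : LocallyOfFinitePresentation i.left := hl inferInstance
  haveI : Mono i := Over.mono_of_mono_left i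
  have hiff : ∀ (X : Over S₀) (g : X ⟶ G), (∃ z, z ≫ i = g) ↔ ∃ z, z ≫ c = g := by
    intro X g
    rw [hC, hF]
    refine forall₃_congr fun X' x h => ?_
    rw [ConjAction.lift_conj, mul_inv_eq_iff_eq_mul]
    exact eq_comm
  obtain ⟨u, hu⟩ := (hiff F i).1 ⟨𝟙 _, Category.id_comp _⟩
  obtain ⟨v, hv⟩ := (hiff C c).2 ⟨𝟙 _, Category.id_comp _⟩
  haveI : IsIso u := ⟨v, by rw [← cancel_mono i, Category.assoc, hv, hu, Category.id_comp],
    by rw [← cancel_mono c, Category.assoc, hu, hv, Category.id_comp]⟩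
  haveI : IsIso v := ⟨u, by rw [← cancel_mono c, Category.assoc, hu, hv, Category.id_comp],
    by rw [← cancel_mono i, Category.assoc, hv, hu, Category.id_comp]⟩
  haveI : IsIso v.left := inferInstanceAs (IsIso ((Over.forget _).map v))
  refine ⟨?_, ?_⟩
  · haveI := smooth_fixedLocus (ConjAction.conj j) hTl i hF
    rw [← Over.w v]
    infer_instance
  haveI : IsClosedImmersion c.left := by rw [← hv]; exact inferInstanceAs (IsClosedImmersion (v.left ≫ i.left))
  -- the affine hull
  haveI := AffHull.compactSpace (G := G)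
  haveI := AffHull.quasiSeparatedSpace (G := G)
  obtain ⟨hQl, hρs, hρf, hρp⟩ := AffHull.hull_props (G := G)
  let Q := AffHull.hull G
  let ρ : G ⟶ Q := AffHull.rho G
  haveI : ConnectedSpace Q.left := ρ.left.surjective.connectedSpace ρ.left.continuous
  haveI : IsReduced G.left := Groth.Agent.AV.isReduced_of_smooth_field G.hom
  haveI : IsReduced Q.left := inferInstanceAs (IsReduced (Spec Γ(G.left, ⊤)))
  haveI : Smooth Q.hom := smooth_of_reduced Q
  haveI : IsSeparated Q.hom := AbelianGrp.isSeparated Q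
  let j' : T ⟶ Q := j ≫ ρ
  haveI : IsMonHom j' := inferInstanceAs (IsMonHom (j ≫ ρ))
  obtain ⟨C', c', hc', hC'⟩ := FactorLocus.exists_closedImmersion_agree
    ((snd T Q) * (fst T Q ≫ j')) ((fst T Q ≫ j') * (snd T Q))
  haveI := hc'
  haveI : Mono c' := Over.mono_of_mono_left c'
  have hC'' : ∀ (X : Over S₀) (g : X ⟶ Q), (∃ z, z ≫ c' = g) ↔
      ∀ (X' : Over S₀) (x : X' ⟶ X) (h : X' ⟶ T), (x ≫ g) * (h ≫ j') = (h ≫ j') * (x ≫ g) := by
    intro X g
    rw [hC' X g]
    simp only [MonObj.comp_mul, whiskerLeft_fst_assoc, whiskerLeft_snd]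
    constructor
    · intro e X' x h
      have := congrArg (CartesianMonoidalCategory.lift h x ≫ ·) e
      simp only [MonObj.comp_mul, lift_fst_assoc, lift_snd_assoc] at this
      exact this
    · intro h
      exact h (T ⊗ X) (snd T X) (fst T X)
  haveI : IsAffine Q.left := inferInstance
  haveI : ConnectedSpace C'.left := Dyn.connectedSpace_centralizer' Q T j' hT C' c' hC''
  -- the kernel
  obtain ⟨N, gN, n, _, _, -, sq⟩ := AbelianGrp.exists_kernel ρ
  haveI : Mono n := Over.mono_of_mono_left n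
  have hO := AffHull.isIso_appTop_kernel n sq
  haveI : LocallyOfFiniteType N.hom := by rw [← Over.w n]; infer_instance
  haveI : QuasiCompact N.hom := by rw [← Over.w n]; infer_instance
  haveI : ConnectedSpace N.left := AffHull.connectedSpace_of_antiAffine N hO
  haveI : Smooth N.hom := AffHull.smooth_of_antiAffine N hO
  have hcen : ∀ (X : Over S₀) (y : X ⟶ N) (g : X ⟶ G), (y ≫ n) * g = g * (y ≫ n) := by
    intro X y g
    haveI := hO
    have := Centre.central (G := G) ((ConcreteCategory.bijective_of_isIso N.hom.appTop).2) n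
    have := congrArg (CartesianMonoidalCategory.lift y g ≫ ·) this
    simpa only [MonObj.comp_mul, lift_fst_assoc, lift_snd] using this
  haveI : IsCommMonObj N := ⟨by
    rw [← cancel_mono n, MonObj.mul_eq_mul, MonObj.comp_mul, braiding_hom_fst, braiding_hom_snd,
      MonObj.mul_comp, MonObj.mul_comp]
    exact hcen _ _ _⟩
  -- the preimage of the centralizer
  let P : Over S₀ := Over.mk (pullback.fst ρ.left c'.left ≫ G.hom)
  let p : P ⟶ G := Over.homMk (pullback.fst ρ.left c'.left) rfl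
  let pz : P ⟶ C' := Over.homMk (pullback.snd ρ.left c'.left) (by
    show pullback.snd ρ.left c'.left ≫ C'.hom = pullback.fst ρ.left c'.left ≫ G.hom
    rw [← Over.w c', ← pullback.condition_assoc, Over.w ρ])
  have hpz : p ≫ ρ = pz ≫ c' := Over.OverMorphism.ext pullback.condition
  haveI : IsClosedImmersion p.left := inferInstanceAs (IsClosedImmersion (pullback.fst ρ.left c'.left))
  have hrange : Set.range p.left = ρ.left ⁻¹' Set.range c'.left := Scheme.Pullback.range_fst _ _
  haveI : LocallyOfFiniteType P.hom := by rw [← Over.w p]; infer_instance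
  haveI : JacobsonSpace G.left := LocallyOfFiniteType.jacobsonSpace G.hom
  haveI : JacobsonSpace Q.left := LocallyOfFiniteType.jacobsonSpace Q.hom
  have hopen : IsOpenMap ρ.left := ρ.left.isOpenMap
  have hPconn : _root_.IsPreconnected (ρ.left ⁻¹' Set.range c'.left) :=
    isPreconnected_preimage_of_kernel ρ hopen n sq c'.left.isClosedEmbedding.isClosed_range
      (isConnected_range c'.left.continuous).isPreconnected
  haveI : PreconnectedSpace P.left := by
    refine ⟨p.left.isClosedEmbedding.isInducing.isPreconnected_image.1 ?_⟩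
    rw [Set.image_univ, hrange]
    exact hPconn
  -- every rational point of the preimage centralizes the torus
  have hpts : ∀ g₀ : 𝟙_ (Over S₀) ⟶ G, g₀.left (IsLocalRing.closedPoint k) ∈ Set.range p.left →
      ∃ z, z ≫ c = g₀ := by
    intro g₀ hg₀
    rw [hC]
    obtain ⟨x₀, hx₀⟩ := hg₀
    have hx₀c : IsClosed {x₀} := by
      have : {x₀} = p.left ⁻¹' {g₀.left (IsLocalRing.closedPoint k)} := by
        ext z
        simp only [Set.mem_singleton_iff, Set.mem_preimage, ← hx₀]
        exact p.left.isClosedEmbedding.injective.eq_iff.symm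
      rw [this]
      exact IsClosed.preimage p.left.continuous
        ((pointEquivClosedPoint G.hom ⟨g₀.left, Over.w g₀⟩).2)
    obtain ⟨xP, hxP⟩ := exists_point hx₀c
    have hg : xP ≫ p = g₀ := point_ext (by rw [Over.comp_left, Scheme.Hom.comp_apply, hxP, hx₀])
    obtain ⟨eP, heP⟩ : ∃ eP : 𝟙_ (Over S₀) ⟶ P, eP ≫ p = 1 := by
      obtain ⟨z1, hz1⟩ := (hC'' (𝟙_ (Over S₀)) 1).2 fun X' x h => by
        rw [MonObj.comp_one, _root_.one_mul, _root_.mul_one]
      refine ⟨Over.homMk (pullback.lift (1 : 𝟙_ (Over S₀) ⟶ G).left z1.left ?_) ?_, Over.OverMorphism.ext (pullback.lift_fst _ _ _)⟩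
      · rw [← Over.comp_left, ← Over.comp_left, hz1, MonObj.one_comp]
      · show pullback.lift _ _ _ ≫ pullback.fst _ _ ≫ G.hom = _
        rw [pullback.lift_fst_assoc, Over.w]
    have key : (toUnit T ≫ g₀) * j = j * (toUnit T ≫ g₀) := by
      refine hom_ext_torsion hT _ _ fun q t hq hq0 htq => ?_
      have h3 := commute_torsion ρ n sq hcen j p (fun X' x h => by
        have h1 := (hC'' P (p ≫ ρ)).1 ⟨pz, hpz.symm⟩ X' x h
        simpa only [j', Category.assoc] using h1) heP hg t hq0 htq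
      simp only [MonObj.comp_mul, ← Category.assoc, toUnit_unique (t ≫ toUnit T) (𝟙 _), Category.id_comp]
      exact h3
    intro X' x h
    have h4 := congrArg (h ≫ ·) key
    simp only [MonObj.comp_mul, ← Category.assoc, toUnit_unique (h ≫ toUnit T) x] at h4
    exact h4
  have hPC : Set.range p.left = Set.range c.left := by
    have hPcl := p.left.isClosedEmbedding.isClosed_range
    have hCcl := c.left.isClosedEmbedding.isClosed_range
    refine Set.Subset.antisymm ?_ ?_
    · rw [← closure_inter_closedPoints hPcl]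
      refine hCcl.closure_subset_iff.2 fun x ⟨hx, hxc⟩ => ?_
      obtain ⟨g₀, hg₀⟩ := exists_point hxc
      obtain ⟨z, hz⟩ := hpts g₀ (hg₀.symm ▸ hx)
      exact ⟨z.left (IsLocalRing.closedPoint k), by rw [← hg₀, ← hz, Over.comp_left, Scheme.Hom.comp_apply]⟩
    · rw [hrange]
      rintro _ ⟨z, rfl⟩
      obtain ⟨z', hz'⟩ := (hC'' C (c ≫ ρ)).2 fun X' x h => by
        have h5 := congrArg (· ≫ ρ) ((hC C c).1 ⟨𝟙 _, Category.id_comp _⟩ X' x h)
        simpa only [MonObj.mul_comp, j', Category.assoc] using h5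
      refine ⟨z'.left z, ?_⟩
      rw [← Scheme.Hom.comp_apply, ← Over.comp_left, hz', Over.comp_left, Scheme.Hom.comp_apply]
  haveI : Nonempty C.left := ⟨η[C].left (IsLocalRing.closedPoint k)⟩
  refine { toPreconnectedSpace := ⟨c.left.isClosedEmbedding.isInducing.isPreconnected_image.1 ?_⟩, toNonempty := inferInstance }
  rw [Set.image_univ, ← hPC, hrange]
  exact hPconn

end Groth.L25.Locus
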