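import Groth.Agent.L25.Locus.Normalizer
import Groth.Agent.L25.Central
import Groth.Agent.L23.InfEtaleRing
import Groth.Agent.L23.SchemeFacts
import Groth.Agent.L25.Cocycle.LiftHom
import Mathlib.AlgebraicGeometry.Morphisms.Etale

/-!
# The centralizer of a subgroup of multiplicative type is open and closed in the normalizer
-/

set_option autoImplicit false
universe u

open CategoryTheory CategoryTheory.Limits MonoidalCategory CartesianMonoidalCategory
open AlgebraicGeometry
open scoped MonObj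

set_option backward.isDefEq.respectTransparency.types false

noncomputable section

namespace Groth.L25.Locus

variable {S : Scheme.{u}} {H G : Over S} [GrpObj H] [GrpObj G]

/-- two monomorphisms with the same points -/
theorem exists_iso_of_points {W W' G : Over S} (j : W ⟶ G) (j' : W' ⟶ G) [Mono j] [Mono j']
    (h : ∀ (X : Over S) (g : X ⟶ G), (∃ z, z ≫ j = g) ↔ (∃ z, z ≫ j' = g)) :
    ∃ φ : W ≅ W', φ.hom ≫ j' = j := by
  obtain ⟨a, ha⟩ := (h W j).1 ⟨𝟙 W, Category.id_comp j⟩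
  obtain ⟨b, hb⟩ := (h W' j').2 ⟨𝟙 W', Category.id_comp j'⟩
  exact ⟨⟨a, b, (cancel_mono j).1 (by rw [Category.assoc, hb, ha, Category.id_comp]),
    (cancel_mono j').1 (by rw [Category.assoc, ha, hb, Category.id_comp])⟩, ha⟩

theorem isClosedImmersion_normalizer [IsAffineHom G.hom] (hH : SGA3x.IsMultTypeFT H)
    (i : H ⟶ G) [IsMonHom i] [Mono i] {N : Over S} [GrpObj N] (k : N ⟶ G) (hk : Red.IsNormalizerOf i k) :
    IsClosedImmersion k.left := by
  have := isClosedImmersion_of_mono (locally_of_multTypeFT hH) i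
  obtain ⟨W, w, hw, -, hW⟩ := exists_subgroupTransporter (locally_of_multTypeFT hH) (locally_of_multTypeFT hH) i i
  have : Mono w := Over.mono_of_mono_left w
  have := hk.2.1
  obtain ⟨φ, hφ⟩ := exists_iso_of_points k w fun X g => (hk.2.2 X g).trans
    ((show _ ↔ Sends i i X g ∧ SendsBack i i X g from
      ⟨fun h => ⟨fun X' t x => (h X' t x).1, fun X' t x => (h X' t x).2⟩,
        fun h X' t x => ⟨h.1 X' t x, h.2 X' t x⟩⟩).trans (hW X g).symm)
  have : IsIso φ.hom.left := inferInstanceAs (IsIso ((Over.forget S).map φ.hom))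
  rw [← hφ, Over.comp_left]
  infer_instance

theorem isClosedImmersion_centralizer [IsAffineHom G.hom] [LocallyOfFiniteType G.hom] (hH : SGA3x.IsMultTypeFT H)
    (i : H ⟶ G) [IsMonHom i] {Z : Over S} [GrpObj Z] (j : Z ⟶ G) (hj : Red.IsCentralizerOf i j) :
    IsClosedImmersion j.left ∧ LocallyOfFinitePresentation j.left := by
  obtain ⟨W, _, w, hw, hwc, hwl, -⟩ := exists_centralizer (locally_of_multTypeFT hH) i
  have := hw.2.1
  have := hj.2.1
  have := hwl inferInstance
  obtain ⟨φ, hφ⟩ := exists_iso_of_points j w fun X g => (hj.2.2 X g).trans (hw.2.2 X g).symm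
  have : IsIso φ.hom.left := inferInstanceAs (IsIso ((Over.forget S).map φ.hom))
  rw [← hφ, Over.comp_left]
  exact ⟨inferInstance, inferInstance⟩

/-- an element normalizing and centralizing modulo a nilpotent ideal centralizes -/
theorem commute_of_normalizes {A : Type u} [CommRing A] {I : Ideal A} (hI : IsNilpotent I)
    (c : Spec (CommRingCat.of A) ⟶ S) (hH : SGA3x.IsMultTypeFT H) (i : H ⟶ G) [IsMonHom i] [Mono i]
    (g : Over.mk c ⟶ G)
    (hn : ∀ (X' : Over S) (x : X' ⟶ Over.mk c) (h : X' ⟶ H), ∃ h', (x ≫ g) * (h ≫ i) * (x ≫ g)⁻¹ = h' ≫ i)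
    (h0 : ∀ (X' : Over S) (x : X' ⟶ Over.mk c) (_ : ∃ q : X'.left ⟶ Spec (CommRingCat.of (A ⧸ I)),
      q ≫ Spec.map (CommRingCat.ofHom (Ideal.Quotient.mk I)) = x.left) (h : X' ⟶ H),
      (x ≫ g) * (h ≫ i) = (h ≫ i) * (x ≫ g))
    (X' : Over S) (x : X' ⟶ Over.mk c) (h : X' ⟶ H) : (x ≫ g) * (h ≫ i) = (h ≫ i) * (x ≫ g) := by
  let H' := Red.bc c H
  let xu : Over.mk (H'.hom ≫ c) ⟶ Over.mk c := Over.homMk H'.hom rfl
  let hu : Over.mk (H'.hom ≫ c) ⟶ H := NilAction.toBase c (𝟙 H')
  obtain ⟨h', hh'⟩ := hn _ xu hu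
  let φ : H' ⟶ H' := NilAction.ofBase c h'
  have hbase : ∀ {Y : Over (Spec (CommRingCat.of A))} (a : Y ⟶ H'),
      ∃ m : Over.mk (Y.hom ≫ c) ⟶ Over.mk (H'.hom ≫ c), m.left = a.left ∧
        NilAction.toBase c a = m ≫ hu ∧ NilAction.toBase c (a ≫ φ) = m ≫ h' := fun {Y} a => by
    refine ⟨Over.homMk a.left ?_, rfl, ?_, ?_⟩
    · show a.left ≫ H'.hom ≫ c = Y.hom ≫ c
      rw [← Category.assoc, Over.w a]
    · apply Over.OverMorphism.ext
      show a.left ≫ pullback.fst H.hom c = a.left ≫ 𝟙 _ ≫ pullback.fst H.hom c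
      rw [Category.id_comp]
    · apply Over.OverMorphism.ext
      show (a.left ≫ φ.left) ≫ pullback.fst H.hom c = a.left ≫ h'.left
      rw [Category.assoc]
      congr 1
      exact pullback.lift_fst _ _ _
  have hφ : ∀ {Y : Over (Spec (CommRingCat.of A))} (a : Y ⟶ H'),
      NilAction.toBase c (a ≫ φ) ≫ i = ((Over.homMk Y.hom rfl : Over.mk (Y.hom ≫ c) ⟶ Over.mk c) ≫ g) *
        (NilAction.toBase c a ≫ i) * ((Over.homMk Y.hom rfl : Over.mk (Y.hom ≫ c) ⟶ Over.mk c) ≫ g)⁻¹ := by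
    intro Y a
    obtain ⟨m, hm, h1, h2⟩ := hbase a
    have h3 : m ≫ xu = (Over.homMk Y.hom rfl : Over.mk (Y.hom ≫ c) ⟶ Over.mk c) :=
      Over.OverMorphism.ext ((congrArg (· ≫ H'.hom) hm).trans (Over.w a))
    rw [h2, Category.assoc, ← hh', h1, MonObj.comp_mul, MonObj.comp_mul, GrpObj.comp_inv, ← Category.assoc,
      ← Category.assoc, h3]
  have hinj : ∀ {Y : Over (Spec (CommRingCat.of A))} (a b : Y ⟶ H'),
      NilAction.toBase c a ≫ i = NilAction.toBase c b ≫ i → a = b := fun a b e => by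
    rw [← NilAction.ofBase_toBase c a, ← NilAction.ofBase_toBase c b, (cancel_mono i).1 e]
  have hmul : ∀ (Y : Over (Spec (CommRingCat.of A))) (a b : Y ⟶ H'), (a * b) ≫ φ = (a ≫ φ) * (b ≫ φ) := by
    intro Y a b
    refine hinj _ _ ?_
    rw [hφ, NilAction.toBase_mul, NilAction.toBase_mul, MonObj.mul_comp, MonObj.mul_comp, hφ, hφ]
    group
  have hφm : IsMonHom φ := by
    refine ⟨?_, by rw [MonObj.mul_eq_mul, hmul, MonObj.comp_mul, tensorHom_fst, tensorHom_snd]⟩
    have h1 : (MonObj.one : 𝟙_ (Over (Spec (CommRingCat.of A))) ⟶ H') = 1 := by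
      rw [Hom.one_def, toUnit_unique (toUnit _) (𝟙 _), Category.id_comp]
    rw [h1]
    have h2 := hmul _ (1 : 𝟙_ (Over (Spec (CommRingCat.of A))) ⟶ H') 1
    rw [_root_.one_mul] at h2
    exact left_eq_mul.1 h2
  have heq : φ = 𝟙 H' := by
    have hl := locally_bc (locally_of_multTypeFT hH) c
    refine Cocycle.hom_eq_of_agree hl hl hI φ (𝟙 H') fun Y q a => hinj _ _ ?_
    rw [Category.comp_id, hφ, h0 _ _ ⟨q.left, Over.w q⟩ _, mul_inv_cancel_right]
  have hcomm : (xu ≫ g) * (hu ≫ i) = (hu ≫ i) * (xu ≫ g) := by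
    have h4 : h' = hu := by
      rw [← NilAction.toBase_ofBase c h']
      exact congrArg (NilAction.toBase c) heq
    rw [← h4] at hh' ⊢
    exact mul_inv_eq_iff_eq_mul.1 hh'
  let m : X' ⟶ Over.mk (H'.hom ≫ c) := Over.homMk (pullback.lift h.left x.left ((Over.w h).trans (Over.w x).symm)) (by
    show pullback.lift _ _ _ ≫ pullback.snd H.hom c ≫ c = X'.hom
    rw [pullback.lift_snd_assoc]
    exact Over.w x)
  have hm1 : m ≫ xu = x := Over.OverMorphism.ext (pullback.lift_snd _ _ _)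
  have hm2 : m ≫ hu = h := by
    apply Over.OverMorphism.ext
    show pullback.lift _ _ _ ≫ 𝟙 _ ≫ pullback.fst H.hom c = h.left
    rw [Category.id_comp]
    exact pullback.lift_fst _ _ _
  have h5 := congrArg (m ≫ ·) hcomm
  simp only [MonObj.comp_mul, ← Category.assoc, hm1, hm2] at h5
  exact h5

/-- the centralizer is open and closed in the normalizer -/
theorem exists_clopen_centralizer [Smooth G.hom] [IsAffineHom G.hom] (hH : SGA3x.IsMultTypeFT H)
    (i : H ⟶ G) [IsMonHom i] [Mono i] {Z N : Over S} [GrpObj Z] [GrpObj N] (j : Z ⟶ G) (k : N ⟶ G)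
    (hj : Red.IsCentralizerOf i j) (hk : Red.IsNormalizerOf i k) :
    ∃ f : Z ⟶ N, f ≫ k = j ∧ IsOpenImmersion f.left ∧ IsClosedImmersion f.left := by
  have := hk.2.1
  have := hj.2.1
  have := isClosedImmersion_normalizer hH i k hk
  obtain ⟨hjc, hjl⟩ := isClosedImmersion_centralizer hH i j hj
  obtain ⟨f, hf⟩ := (hk.2.2 Z j).2 fun X' x h => by
    have e := (hj.2.2 Z j).1 ⟨𝟙 Z, Category.id_comp j⟩ X' x h
    refine ⟨⟨h, by rw [e, mul_inv_cancel_right]⟩, ⟨h, ?_⟩⟩
    rw [_root_.mul_assoc, ← e, inv_mul_cancel_left]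
  have hfl : f.left ≫ k.left = j.left := congrArg (fun m => m.left) hf
  have : IsClosedImmersion (f.left ≫ k.left) := hfl ▸ hjc
  have : LocallyOfFinitePresentation (f.left ≫ k.left) := hfl ▸ hjl
  have : IsClosedImmersion f.left := IsClosedImmersion.of_comp f.left k.left
  have : LocallyOfFinitePresentation f.left := Groth.L23.lfp_of_comp_lft f.left k.left inferInstance
  refine ⟨f, hf, ?_, inferInstance⟩
  have hfe : MoreMor.IsFormallyEtaleHom f.left := by
    intro A _ I hI a b hab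
    let c : Spec (CommRingCat.of A) ⟶ S := b ≫ N.hom
    let g : Over.mk c ⟶ G := Over.homMk b rfl ≫ k
    obtain ⟨z, hz⟩ := (hj.2.2 _ g).2 (commute_of_normalizes ⟨2, hI⟩ c hH i g
      (fun X' x h => ((hk.2.2 _ g).1 ⟨Over.homMk b rfl, rfl⟩ X' x h).1)
      (fun X' x hq h => by
        obtain ⟨q, hq⟩ := hq
        let a' : X' ⟶ Z := Over.homMk (q ≫ a) (by
          rw [← Over.w f, Category.assoc, ← reassoc_of% hab, reassoc_of% hq]
          exact Over.w x)
        have hxg : x ≫ g = a' ≫ j := by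
          apply Over.OverMorphism.ext
          show x.left ≫ b ≫ k.left = (q ≫ a) ≫ j.left
          rw [← hfl, ← hq, Category.assoc, Category.assoc, reassoc_of% hab]
        have e := (hj.2.2 _ (a' ≫ j)).1 ⟨a', rfl⟩ X' (𝟙 X') h
        rw [Category.id_comp] at e
        rw [hxg]
        exact e))
    refine ⟨z.left, ⟨?_, ?_⟩, fun l hl => ?_⟩
    · rw [← cancel_mono f.left, Category.assoc, ← hab]
      congr 1
      rw [← cancel_mono k.left, Category.assoc, hfl]
      exact congrArg (fun m => m.left) hz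
    · rw [← cancel_mono k.left, Category.assoc, hfl]
      exact congrArg (fun m => m.left) hz
    · rw [← cancel_mono f.left, hl.2, ← cancel_mono k.left, Category.assoc, hfl]
      exact (congrArg (fun m => m.left) hz).symm
  have := Groth.L23.etale_of_lfp_of_formallyEtaleHom f.left hfe
  exact IsOpenImmersion.of_flat_of_mono f.left

end Groth.L25.Locus
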