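import Groth.Agent.L25.Cocycle.Charts
import Groth.Agent.L25.Cocycle.Descend
import Groth.Agent.L25.Locus.Factor
import Mathlib.RingTheory.Flat.FaithfullyFlat.Basic
import Mathlib.RingTheory.RingHom.Flat
import Mathlib.LinearAlgebra.TensorProduct.Pi

/-!
# Where all points of a group of multiplicative type are sent into a closed subscheme
-/

set_option autoImplicit false
universe u

open CategoryTheory CategoryTheory.Limits MonoidalCategory CartesianMonoidalCategory
open AlgebraicGeometry Groth.L25.Cocycle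
open scoped TensorProduct

set_option backward.isDefEq.respectTransparency.types false

noncomputable section

namespace Groth.L25.Locus

variable {S : Scheme.{u}} {H T Y Y' : Over S}

/-- all points of `H` over a point of `T` are sent into the subobject -/
def Fac (a : T ⊗ H ⟶ Y) (k : Y' ⟶ Y) (T' : Over S) (x : T' ⟶ T) : Prop :=
  ∀ (X' : Over S) (t : X' ⟶ T') (h : X' ⟶ H), ∃ y : X' ⟶ Y', y ≫ k = lift (t ≫ x) h ≫ a

variable {a : T ⊗ H ⟶ Y} {k : Y' ⟶ Y}

theorem Fac.comp {T' T'' : Over S} {x : T' ⟶ T} (hF : Fac a k T' x) (c : T'' ⟶ T') : Fac a k T'' (c ≫ x) :=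
  fun X' t h => by rw [← Category.assoc]; exact hF X' (t ≫ c) h

theorem over_factors {X' : Over S} {g : X' ⟶ Y} (h : ∃ w : X'.left ⟶ Y'.left, w ≫ k.left = g.left) :
    ∃ y : X' ⟶ Y', y ≫ k = g := by
  obtain ⟨w, hw⟩ := h
  exact ⟨Over.homMk w (by rw [← Over.w k, ← Category.assoc, hw]; exact Over.w g), Over.OverMorphism.ext hw⟩

theorem Fac.of_cov [Mono k.left] {T' T'' : Over S} {x : T' ⟶ T} (c : T'' ⟶ T') [Groth.L20.SchDesc.Cov c.left]
    (hF : Fac a k T'' (c ≫ x)) : Fac a k T' x := by
  intro X' t h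
  let q := pullback.fst t.left c.left
  have : Groth.L20.SchDesc.Cov q :=
    Groth.L20.SchDesc.Cov.of_isPullback (IsPullback.of_hasPullback t.left c.left).flip
  let X'' : Over S := Over.mk (q ≫ X'.hom)
  let d : X'' ⟶ X' := Over.homMk q rfl
  let t'' : X'' ⟶ T'' := Over.homMk (pullback.snd t.left c.left) (by
    show pullback.snd t.left c.left ≫ T''.hom = q ≫ X'.hom
    rw [← Over.w c, ← pullback.condition_assoc, Over.w t])
  obtain ⟨y, hy⟩ := hF X'' t'' (d ≫ h)
  have e : t'' ≫ c = d ≫ t := Over.OverMorphism.ext pullback.condition.symm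
  rw [← Category.assoc, e, Category.assoc, ← comp_lift, Category.assoc] at hy
  exact over_factors (factors_of_cov k.left _ q y.left (congrArg (fun m => m.left) hy))

theorem Fac.of_cover [Mono k.left] {T' : Over S} {x : T' ⟶ T} {ι : Type u} (P : ι → Over S) (o : ∀ i, P i ⟶ T')
    [∀ i, IsOpenImmersion (o i).left] (hs : ∀ z : T'.left, ∃ i, z ∈ Set.range (o i).left)
    (hF : ∀ i, Fac a k (P i) (o i ≫ x)) : Fac a k T' x := by
  intro X' t h
  refine over_factors (factors_of_cover k.left _ fun z => ?_)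
  obtain ⟨i, hi⟩ := hs (t.left z)
  let q := pullback.fst t.left (o i).left
  let X'' : Over S := Over.mk (q ≫ X'.hom)
  let d : X'' ⟶ X' := Over.homMk q rfl
  let t'' : X'' ⟶ P i := Over.homMk (pullback.snd t.left (o i).left) (by
    show pullback.snd t.left (o i).left ≫ (P i).hom = q ≫ X'.hom
    rw [← Over.w (o i), ← pullback.condition_assoc, Over.w t])
  obtain ⟨y, hy⟩ := hF i X'' t'' (d ≫ h)
  have e : t'' ≫ o i = d ≫ t := Over.OverMorphism.ext pullback.condition.symm
  rw [← Category.assoc, e, Category.assoc, ← comp_lift, Category.assoc] at hy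
  obtain ⟨b, hb⟩ := hi
  obtain ⟨w, hw, -⟩ := Scheme.Pullback.exists_preimage_pullback (f := t.left) (g := (o i).left) z b hb.symm
  exact ⟨_, q, inferInstance, ⟨w, hw⟩, y.left, congrArg (fun m => m.left) hy⟩

variable {R : Type u} [CommRing R] {j : Spec (CommRingCat.of R) ⟶ S} [GrpObj H]

/-- an affine point over `j` as a point over the point `x₀` -/
def toJ (j : Spec (CommRingCat.of R) ⟶ S) (C : Type u) [CommRing C] [Algebra R C] : X j C ⟶ Over.mk j :=
  Over.homMk (Spec.map (CommRingCat.ofHom (algebraMap R C))) rfl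

theorem mor_toJ {C D : Type u} [CommRing C] [CommRing D] [Algebra R C] [Algebra R D] (h : C →ₐ[R] D) :
    mor j h ≫ toJ j C = toJ j D := by
  apply Over.OverMorphism.ext
  show Spec.map (CommRingCat.ofHom h.toRingHom) ≫ Spec.map _ = Spec.map _
  rw [← Spec.map_comp, ← CommRingCat.ofHom_comp, AlgHom.toRingHom_eq_coe, AlgHom.comp_algebraMap]

/-- affine points over `X j C` -/
theorem exists_affine_point {C : Type u} [CommRing C] [Algebra R C] {B : Type u} [CommRing B] {Q : Over S}
    (o : Spec (CommRingCat.of B) ⟶ Q.left) (p : Q ⟶ X j C) :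
    ∃ (_ : Algebra R B) (ζ : X j B ⟶ Q) (h : C →ₐ[R] B), ζ.left = o ∧ ζ ≫ p = mor j h := by
  obtain ⟨φ, hφ⟩ := Spec.map_surjective (o ≫ p.left)
  letI : Algebra R B := (φ.hom.comp (algebraMap R C)).toAlgebra
  let h : C →ₐ[R] B := { φ.hom with commutes' := fun r => rfl }
  refine ⟨inferInstance, Over.homMk o ?_, h, rfl, Over.OverMorphism.ext hφ.symm⟩
  show o ≫ Q.hom = Spec.map (CommRingCat.ofHom (φ.hom.comp (algebraMap R C))) ≫ j
  rw [← Over.w p, CommRingCat.ofHom_comp, Spec.map_comp, Category.assoc]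
  simp only [Over.mk_hom, ← Category.assoc, ← hφ]
  rfl

theorem coeff_lift {C : Type u} [CommRing C] [Algebra R C] {M : Type} [CommGroup M] (x : MonoidAlgebra R M) (m : M) :
    (MonoidAlgebra.lift R (MonoidAlgebra C M) M (MonoidAlgebra.of C M) x).coeff m = algebraMap R C (x.coeff m) := by
  classical
  induction x using MonoidAlgebra.induction_linear with
  | zero => simp
  | add p q hp hq => simp [hp, hq]
  | single b d =>
    simp [MonoidAlgebra.lift_single, Algebra.smul_def, MonoidAlgebra.coe_algebraMap,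
      MonoidAlgebra.single_mul_single, MonoidAlgebra.coeff_single, Finsupp.single_apply,
      apply_ite (algebraMap R C)]

/-- the content ideal -/
theorem exists_content (a : T ⊗ H ⟶ Y) (k : Y' ⟶ Y) [IsClosedImmersion k.left] (x₀ : Over.mk j ⟶ T)
    {M : Type} [CommGroup M] (e : Chart j H M) :
    ∃ c : Ideal R, (LocallyOfFinitePresentation k.left → c.FG) ∧
      ∀ (C : Type u) [CommRing C] [Algebra R C],
        Fac a k (X j C) (toJ j C ≫ x₀) ↔ ∀ r ∈ c, algebraMap R C r = 0 := by
  classical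
  let A := MonoidAlgebra R M
  let P₀ : X j A ⟶ Y := lift (toJ j A ≫ x₀) (e.pt (MonoidAlgebra.of R M)) ≫ a
  obtain ⟨I, hfg, hI⟩ := exists_ideal_factors k.left P₀.left
  have hpt : ∀ (C : Type u) [CommRing C] [Algebra R C] (χ : M →* C),
      (∃ y : X j C ⟶ Y', y ≫ k = lift (toJ j C ≫ x₀) (e.pt χ) ≫ a) ↔
        ∀ x ∈ I, MonoidAlgebra.lift R C M χ x = 0 := by
    intro C _ _ χ
    have hnat : mor j (MonoidAlgebra.lift R C M χ) ≫ P₀ = lift (toJ j C ≫ x₀) (e.pt χ) ≫ a := by
      rw [← Category.assoc, comp_lift, ← Category.assoc, mor_toJ, e.nat]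
      congr 3
      exact MonoidHom.ext fun m => by simp
    rw [← hnat]
    refine Iff.trans ?_ (hI C (MonoidAlgebra.lift R C M χ).toRingHom)
    exact ⟨fun ⟨y, hy⟩ => ⟨y.left, congrArg (fun m => m.left) hy⟩, fun h => over_factors h⟩
  obtain ⟨t, ht, htfin⟩ : ∃ t : Set A, Ideal.span t = I ∧ (LocallyOfFinitePresentation k.left → t.Finite) := by
    by_cases hk : LocallyOfFinitePresentation k.left
    · obtain ⟨t, ht⟩ := hfg hk
      exact ⟨t, ht, fun _ => t.finite_toSet⟩
    · exact ⟨I, Ideal.span_eq I, fun h => absurd h hk⟩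
  refine ⟨Ideal.span (⋃ y ∈ t, y.coeff '' (y.coeff.support : Set M)), fun hk => ?_, fun C _ _ => ⟨?_, ?_⟩⟩
  · exact Submodule.fg_span ((htfin hk).biUnion fun y _ => (Finset.finite_toSet _).image _)
  · intro hF
    let φ : C →ₐ[R] MonoidAlgebra C M := IsScalarTower.toAlgHom R C _
    have h1 := hF (X j (MonoidAlgebra C M)) (mor j φ) (e.pt (MonoidAlgebra.of C M))
    rw [← Category.assoc, mor_toJ] at h1
    have h0 := (hpt _ _).1 h1
    intro r hr
    refine (Ideal.span_le (I := RingHom.ker (algebraMap R C))).2 ?_ hr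
    intro b hb
    simp only [Set.mem_iUnion, Set.mem_image] at hb
    obtain ⟨y, hy, m, -, rfl⟩ := hb
    rw [SetLike.mem_coe, RingHom.mem_ker, ← coeff_lift, h0 y (ht ▸ Ideal.subset_span hy)]
    simp
  · intro hc X' p h
    refine over_factors (factors_of_cover k.left _ fun z => ?_)
    obtain ⟨_, ⟨D, hD, rfl⟩, hzD, -⟩ := X'.left.isBasis_affineOpens.exists_subset_of_mem_open
      (Set.mem_univ z) isOpen_univ
    obtain ⟨inst, ζ, θ, hζ, hζp⟩ := exists_affine_point (B := Γ(X'.left, D)) hD.fromSpec p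
    obtain ⟨χ, hχ⟩ := (e.bij Γ(X'.left, D)).2 (ζ ≫ h)
    have hk : ∀ x ∈ I, MonoidAlgebra.lift R Γ(X'.left, D) M χ x = 0 := by
      intro x hx
      refine (Ideal.span_le (I := RingHom.ker (MonoidAlgebra.lift R Γ(X'.left, D) M χ).toRingHom)).2 ?_
        (ht.symm ▸ hx)
      intro y hy
      show MonoidAlgebra.lift R Γ(X'.left, D) M χ y = 0
      rw [MonoidAlgebra.lift_apply]
      refine Finset.sum_eq_zero fun m hm => ?_
      have h3 : algebraMap R C (y.coeff m) = 0 :=
        hc _ (Ideal.subset_span (Set.mem_biUnion hy (Set.mem_image_of_mem _ hm)))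
      show y.coeff m • χ m = 0
      rw [Algebra.smul_def, ← AlgHom.commutes θ, h3, map_zero, zero_mul]
    obtain ⟨y, hy⟩ := (hpt _ χ).2 hk
    rw [hχ, ← mor_toJ θ, ← hζp, Category.assoc, Category.assoc, ← comp_lift, Category.assoc] at hy
    exact ⟨_, hD.fromSpec, inferInstance, hD.range_fromSpec.ge hzD, y.left, (congrArg (fun m => m.left) hy).trans
      (by rw [Over.comp_left, hζ])⟩

theorem adR_toJ {R' : Type u} [CommRing R'] (θ : R →+* R') (B : Type u) [CommRing B] [Algebra R B] [Algebra R' B]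
    (hc : algebraMap R B = (algebraMap R' B).comp θ) :
    adR θ (rfl : Spec.map (CommRingCat.ofHom θ) ≫ j = _) B hc ≫ toJ j B =
      toJ (Spec.map (CommRingCat.ofHom θ) ≫ j) B ≫ (Over.homMk (Spec.map (CommRingCat.ofHom θ)) rfl :
        Over.mk (Spec.map (CommRingCat.ofHom θ) ≫ j) ⟶ Over.mk j) := by
  apply Over.OverMorphism.ext
  show 𝟙 _ ≫ Spec.map _ = Spec.map _ ≫ Spec.map _
  rw [Category.id_comp, hc, CommRingCat.ofHom_comp, Spec.map_comp]

/-- the ideal of the locus over an affine base -/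
theorem exists_ideal (hH : TwC.Locally S TwC.Topology.fpqc (fun S' f => ∃ (M : Type) (_ : AddCommGroup M),
      Nonempty (Grp.mk (Red.bc f H) ≅ Grp.mk (Red.DS S' M))))
    (a : T ⊗ H ⟶ Y) (k : Y' ⟶ Y) [IsClosedImmersion k.left] (x₀ : Over.mk j ⟶ T) :
    ∃ c : Ideal R, (LocallyOfFinitePresentation k.left → c.FG) ∧
      ∀ (B : Type u) [CommRing B] [Algebra R B],
        Fac a k (X j B) (toJ j B ≫ x₀) ↔ ∀ r ∈ c, algebraMap R B r = 0 := by
  classical
  obtain ⟨F⟩ := exists_family (j := j) hH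
  let x : ∀ i, Over.mk (Spec.map (CommRingCat.ofHom (F.θ i)) ≫ j) ⟶ T := fun i =>
    (Over.homMk (Spec.map (CommRingCat.ofHom (F.θ i))) rfl : _ ⟶ Over.mk j) ≫ x₀
  choose ci hcfg hci using fun i => exists_content a k (x i) (F.chart i)
  let : ∀ i, Algebra R (F.C i) := fun i => (F.θ i).toAlgebra
  have hflat : ∀ i, Module.Flat R (F.C i) := fun i => by
    have h1 := F.flat i
    rw [HasRingHomProperty.Spec_iff (P := @Flat)] at h1
    exact h1
  have : Module.FaithfullyFlat R (∀ i, F.C i) := by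
    have : Module.Flat R (∀ i, F.C i) := by
      have := Fintype.ofFinite F.idx
      exact Module.Flat.of_linearEquiv (DFinsupp.linearEquivFunOnFintype (R := R)).symm
    refine Module.FaithfullyFlat.of_comap_surjective fun p => ?_
    obtain ⟨i, q, hq⟩ := F.surj p
    exact ⟨PrimeSpectrum.comap (Pi.evalRingHom F.C i) q,
      (PrimeSpectrum.comap_comp_apply (algebraMap R (∀ i, F.C i)) (Pi.evalRingHom F.C i) q).symm.trans hq⟩
  -- transfer between the two bases
  have htr : ∀ (i : F.idx) (B : Type u) [CommRing B] [Algebra R B] [Algebra (F.C i) B]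
      (_ : algebraMap R B = (algebraMap (F.C i) B).comp (F.θ i)),
      Fac a k (X j B) (toJ j B ≫ x₀) ↔ ∀ r ∈ ci i, algebraMap (F.C i) B r = 0 := by
    intro i B _ _ _ hB
    rw [← hci i B]
    let ad := adR (F.θ i) (rfl : Spec.map (CommRingCat.ofHom (F.θ i)) ≫ j = _) B hB
    have e : ad ≫ toJ j B ≫ x₀ = toJ _ B ≫ x i := by
      rw [← Category.assoc, adR_toJ, Category.assoc]
    constructor
    · intro hF
      rw [← e]
      exact hF.comp ad
    · intro hF
      have h2 := hF.comp (inv ad)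
      rwa [← e, IsIso.inv_hom_id_assoc] at h2
  let c : Ideal R := ⨅ i, (ci i).comap (F.θ i)
  have hmap : ∀ i, c.map (F.θ i) = ci i := by
    intro i
    refine le_antisymm (Ideal.map_le_iff_le_comap.2 (iInf_le _ i)) ?_
    intro r hr
    let D := fun l => F.C l ⧸ ci l
    let L : (R ⧸ c) →ₐ[R] ∀ l, D l := Ideal.Quotient.liftₐ c (Algebra.ofId R _) fun z hz => by
      funext l
      exact Ideal.Quotient.eq_zero_iff_mem.2 (Ideal.mem_iInf.1 hz l)
    have hinj : Function.Injective L.toLinearMap := by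
      rw [← LinearMap.ker_eq_bot, eq_bot_iff]
      intro z hz
      obtain ⟨z, rfl⟩ := Ideal.Quotient.mk_surjective z
      rw [Submodule.mem_bot, Ideal.Quotient.eq_zero_iff_mem, Ideal.mem_iInf]
      exact fun l => (Ideal.Quotient.eq_zero_iff_mem (I := ci l)).1 (congrFun hz l)
    have h1 : (LinearMap.lTensor (F.C i) L.toLinearMap) (r ⊗ₜ[R] (1 : R ⧸ c)) = 0 := by
      have := Fintype.ofFinite F.idx
      apply (TensorProduct.piRight R R (F.C i) D).injective
      rw [map_zero, LinearMap.lTensor_tmul]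
      funext l
      simp only [AlgHom.toLinearMap_apply, map_one, TensorProduct.piRight_apply, TensorProduct.piRightHom_tmul,
        Pi.one_apply, Pi.zero_apply]
      let B := F.C i ⊗[R] D l
      letI : Algebra (F.C l) B := ((Algebra.TensorProduct.includeRight : D l →ₐ[R] B).toRingHom.comp
        (Ideal.Quotient.mk (ci l))).toAlgebra
      have hB : algebraMap R B = (algebraMap (F.C l) B).comp (F.θ l) := RingHom.ext fun r =>
        ((Algebra.TensorProduct.includeRight : D l →ₐ[R] B).commutes r).symm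
      have hFac := (htr l B hB).2 fun z hz => by
        rw [RingHom.algebraMap_toAlgebra, RingHom.comp_apply, Ideal.Quotient.eq_zero_iff_mem.2 hz, map_zero]
      letI : Algebra (F.C i) B := Algebra.TensorProduct.leftAlgebra
      exact (htr i B (IsScalarTower.algebraMap_eq R (F.C i) B)).1 hFac r hr
    rw [← map_zero (LinearMap.lTensor (F.C i) L.toLinearMap)] at h1
    have h2 := Module.Flat.lTensor_preserves_injective_linearMap (M := F.C i) L.toLinearMap hinj h1
    have h3 := congrArg (TensorProduct.tensorQuotEquivQuotSMul (F.C i) c) h2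
    rw [map_zero, show (1 : R ⧸ c) = Ideal.Quotient.mk c 1 from rfl, TensorProduct.tensorQuotEquivQuotSMul_tmul_mk,
      _root_.one_smul, Submodule.Quotient.mk_eq_zero, Ideal.smul_top_eq_map] at h3
    exact h3
  refine ⟨c, fun hk => ?_, fun B _ _ => ⟨fun hF r hr => ?_, fun hB => ?_⟩⟩
  · have := Fintype.ofFinite F.idx
    have hex : ∀ i, ∃ c₀ : Ideal R, c₀.FG ∧ c₀ ≤ c ∧ c.map (F.θ i) ≤ c₀.map (F.θ i) := by
      intro i
      obtain ⟨s, hs⟩ := hcfg i hk
      rw [hmap i]
      have hmem : ∀ y ∈ s, ∃ c₀ : Ideal R, c₀.FG ∧ c₀ ≤ c ∧ y ∈ c₀.map (F.θ i) := by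
        intro y hy
        have hy' : y ∈ Ideal.span (F.θ i '' c) := by
          show y ∈ c.map (F.θ i)
          rw [hmap i, ← hs]
          exact Ideal.subset_span hy
        obtain ⟨l, hlc, hl⟩ := Submodule.mem_span_finite_of_mem_span hy'
        obtain ⟨l', hl'c, rfl⟩ := Finset.subset_set_image_iff.1 hlc
        exact ⟨Ideal.span l', ⟨l', rfl⟩, Ideal.span_le.2 hl'c, by
          rw [Ideal.map_span, ← Finset.coe_image]; exact hl⟩
      choose g hgfg hgle hgmem using hmem
      refine ⟨⨆ y : s, g y.1 y.2, Submodule.fg_iSup _ fun y => hgfg _ y.2, iSup_le fun y => hgle _ y.2, ?_⟩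
      rw [← hs, Ideal.map_iSup]
      exact Ideal.span_le.2 fun y hy => le_iSup (fun y : s => (g y.1 y.2).map (F.θ i)) ⟨y, hy⟩ (hgmem y hy)
    choose c' hc'fg hc'le hc'ge using hex
    let c₀ : Ideal R := ⨆ i, c' i
    suffices e : c₀ = c from e ▸ Submodule.fg_iSup _ hc'fg
    refine le_antisymm (iSup_le hc'le) ?_
    rw [← Ideal.comap_map_eq_self_of_faithfullyFlat (B := ∀ i, F.C i) c₀]
    intro r hr
    rw [Ideal.mem_comap, ← Finset.univ_sum_single (algebraMap R (∀ i, F.C i) r)]
    refine Ideal.sum_mem _ fun i _ => ?_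
    have hi : F.θ i r ∈ c₀.map (F.θ i) :=
      (hc'ge i).trans (Ideal.map_mono (le_iSup c' i)) (Ideal.mem_map_of_mem _ hr)
    show Pi.single i (F.θ i r) ∈ _
    refine Submodule.span_induction (p := fun y _ => Pi.single i y ∈ c₀.map (algebraMap R (∀ i, F.C i)))
      ?_ ?_ ?_ ?_ hi
    · rintro _ ⟨w, hw, rfl⟩
      have e1 : Pi.single i (F.θ i w) = Pi.single i 1 * algebraMap R (∀ i, F.C i) w := by
        funext l
        rcases eq_or_ne l i with rfl | h
        · rw [Pi.mul_apply, Pi.single_eq_same, Pi.single_eq_same, _root_.one_mul]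
          rfl
        · rw [Pi.mul_apply, Pi.single_eq_of_ne h, Pi.single_eq_of_ne h, zero_mul]
      rw [e1]
      exact Ideal.mul_mem_left _ _ (Ideal.mem_map_of_mem _ hw)
    · rw [Pi.single_zero]; exact zero_mem _
    · intro y z _ _ hy hz
      rw [Pi.single_add]; exact add_mem hy hz
    · intro w y _ hy
      rw [smul_eq_mul, Pi.single_mul]
      exact Ideal.mul_mem_left _ _ hy
  · have h0 : ∀ i, (1 : F.C i) ⊗ₜ[R] algebraMap R B r = 0 := by
      intro i
      let : Algebra (F.C i) (F.C i ⊗[R] B) := Algebra.TensorProduct.leftAlgebra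
      let ir : B →ₐ[R] F.C i ⊗[R] B := Algebra.TensorProduct.includeRight
      have h1 := hF.comp (mor j ir)
      rw [← Category.assoc, mor_toJ] at h1
      have h2 := (htr i (F.C i ⊗[R] B) (IsScalarTower.algebraMap_eq R (F.C i) _)).1 h1 (F.θ i r)
        (hmap i ▸ Ideal.mem_map_of_mem _ hr)
      rw [← h2]
      exact (ir.commutes r).trans (IsScalarTower.algebraMap_apply R (F.C i) _ r)
    have := Fintype.ofFinite F.idx
    apply Module.FaithfullyFlat.tensorProduct_mk_injective (A := R) (B := ∀ i, F.C i) B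
    rw [map_zero]
    apply (TensorProduct.comm R _ _).injective
    rw [map_zero]
    apply (TensorProduct.piRight R R B F.C).injective
    rw [map_zero]
    funext i
    simp only [TensorProduct.mk_apply, TensorProduct.comm_tmul, TensorProduct.piRight_apply,
      TensorProduct.piRightHom_tmul, Pi.one_apply, Pi.zero_apply]
    apply (TensorProduct.comm R _ _).injective
    rw [map_zero, TensorProduct.comm_tmul]
    exact h0 i
  · let W : Scheme.{u} := ∐ fun i => Spec (CommRingCat.of (F.C i ⊗[R] B))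
    let q : W ⟶ Spec (CommRingCat.of B) := Sigma.desc fun i =>
      Spec.map (CommRingCat.ofHom (Algebra.TensorProduct.includeRight : B →ₐ[R] F.C i ⊗[R] B).toRingHom)
    have hqi : ∀ i, IsPullback (Spec.map (CommRingCat.ofHom (algebraMap (F.C i) (F.C i ⊗[R] B))))
        (Spec.map (CommRingCat.ofHom (Algebra.TensorProduct.includeRight : B →ₐ[R] F.C i ⊗[R] B).toRingHom))
        (Spec.map (CommRingCat.ofHom (F.θ i))) (Spec.map (CommRingCat.ofHom (algebraMap R B))) := fun i =>
      isPullback_SpecMap_of_isPushout _ _ _ _ (CommRingCat.isPushout_tensorProduct R (F.C i) B)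
    have : Flat q := IsZariskiLocalAtSource.sigmaDesc fun i =>
      MorphismProperty.of_isPullback (hqi i) (F.flat i)
    have : Surjective q := ⟨fun z => by
      obtain ⟨i, p, hp⟩ := F.surj (Spec.map (CommRingCat.ofHom (algebraMap R B)) z)
      obtain ⟨w, -, hw⟩ := Scheme.exists_preimage_of_isPullback (hqi i) p z hp
      refine ⟨Sigma.ι (fun i => Spec (CommRingCat.of (F.C i ⊗[R] B))) i w, ?_⟩
      rw [← Scheme.Hom.comp_apply, Sigma.ι_desc]
      exact hw⟩
    let W' : Over S := Over.mk (q ≫ (X j B).hom)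
    let qo : W' ⟶ X j B := Over.homMk q rfl
    have : Groth.L20.SchDesc.Cov qo.left := inferInstanceAs (Groth.L20.SchDesc.Cov q)
    refine Fac.of_cov qo ?_
    let P : F.idx → Over S := fun i => Over.mk (Sigma.ι (fun i => Spec (CommRingCat.of (F.C i ⊗[R] B))) i ≫ W'.hom)
    let o : ∀ i, P i ⟶ W' := fun i => Over.homMk (Sigma.ι (fun i => Spec (CommRingCat.of (F.C i ⊗[R] B))) i) rfl
    have : ∀ i, IsOpenImmersion (o i).left := fun i => inferInstanceAs (IsOpenImmersion (Sigma.ι _ i))
    refine Fac.of_cover P o (fun z => ?_) fun i => ?_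
    · obtain ⟨i, w, hw⟩ := (sigmaOpenCover (fun i => Spec (CommRingCat.of (F.C i ⊗[R] B)))).exists_eq z
      exact ⟨i, w, hw⟩
    let : Algebra (F.C i) (F.C i ⊗[R] B) := Algebra.TensorProduct.leftAlgebra
    let ir : B →ₐ[R] F.C i ⊗[R] B := Algebra.TensorProduct.includeRight
    have h1 := (htr i (F.C i ⊗[R] B) (IsScalarTower.algebraMap_eq R (F.C i) _)).2 fun r hr => by
      refine (Ideal.map_le_iff_le_comap.2 fun s hs => ?_ : c.map (F.θ i) ≤
        RingHom.ker (algebraMap (F.C i) (F.C i ⊗[R] B))) (hmap i ▸ hr)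
      show algebraMap (F.C i) (F.C i ⊗[R] B) (F.θ i s) = 0
      rw [show F.θ i s = algebraMap R (F.C i) s from rfl, ← IsScalarTower.algebraMap_apply, ← ir.commutes,
        hB s hs, map_zero]
    let p : P i ⟶ X j (F.C i ⊗[R] B) := Over.homMk (𝟙 _) (by
      show 𝟙 _ ≫ Spec.map _ ≫ j = Sigma.ι _ i ≫ q ≫ Spec.map _ ≫ j
      rw [Category.id_comp, Sigma.ι_desc_assoc, ← Spec.map_comp_assoc, ← CommRingCat.ofHom_comp]
      congr 3
      exact (RingHom.ext fun s => ir.commutes s).symm)
    have hp : o i ≫ qo = p ≫ mor j ir := by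
      apply Over.OverMorphism.ext
      show Sigma.ι _ i ≫ q = 𝟙 _ ≫ Spec.map _
      rw [Sigma.ι_desc, Category.id_comp]
    rw [← Category.assoc, hp, Category.assoc, ← Category.assoc (mor j ir), mor_toJ]
    exact h1.comp p

end Groth.L25.Locus
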