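import Groth.Agent.L25.Locus.Normalizer

/-!
# The transporter for containment of subgroups is smooth
-/

set_option autoImplicit false
universe u

open CategoryTheory CategoryTheory.Limits MonoidalCategory CartesianMonoidalCategory MonObj GrpObj
open AlgebraicGeometry

set_option backward.isDefEq.respectTransparency.types false

noncomputable section

namespace Groth.L25.Locus

variable {S : Scheme.{u}} {G H₁ H₂ W : Over S} [GrpObj G] [GrpObj H₁] [GrpObj H₂]

theorem smooth_sends [Smooth G.hom]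
    (hH₁ : TwC.Locally S TwC.Topology.fpqc (fun S' f => ∃ (M : Type) (_ : AddCommGroup M),
      Nonempty (Grp.mk (Red.bc f H₁) ≅ Grp.mk (Red.DS S' M))))
    (hH₂ : TwC.Locally S TwC.Topology.fpqc (fun S' f => ∃ (M : Type) (_ : AddCommGroup M),
      Nonempty (Grp.mk (Red.bc f H₂) ≅ Grp.mk (Red.DS S' M))))
    (i₁ : H₁ ⟶ G) (i₂ : H₂ ⟶ G) [IsMonHom i₁] [IsMonHom i₂]
    [Mono i₂] (i : W ⟶ G) [Mono i] [LocallyOfFinitePresentation i.left]
    (hW : ∀ (T' : Over S) (x : T' ⟶ G), (∃ w, w ≫ i = x) ↔ Sends i₁ i₂ T' x) :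
    Smooth W.hom := by
  have : LocallyOfFinitePresentation W.hom := by rw [← Over.w i]; infer_instance
  refine smooth_of_formallySmooth _ fun B _ I hI a₀ b hab => ?_
  let g₀s : Over.mk ((Cocycle.Z I).hom ≫ b) ⟶ W := Over.homMk a₀ hab.symm
  have hG' : Smooth (Red.bc b G).hom := MorphismProperty.pullback_snd G.hom b ‹_›
  let g₀ : Cocycle.Z I ⟶ Red.bc b G := NilAction.ofBase b (g₀s ≫ i)
  have htr₁ := (hW _ (g₀s ≫ i)).1 ⟨g₀s, rfl⟩
  let v₁ := (Over.pullback b).map i₁
  let v₂ := (Over.pullback b).map i₂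
  have : Mono v₂ := inferInstance
  obtain ⟨gl, hgl⟩ := Cocycle.exists_lift_point (J := I) ⟨2, hI⟩ g₀
  obtain ⟨φ, hφm, hA⟩ := Cocycle.exists_hom_lift (locally_bc hH₁ b) (locally_bc hH₂ b) (J := I) ⟨2, hI⟩
    (Cocycle.intBy gl v₁) v₂ (fun Y q h => by
      obtain ⟨h', e⟩ := htr₁ _ ((Over.homMk q.left (by
        show q.left ≫ (Cocycle.Z I).hom ≫ b = Y.hom ≫ b
        rw [← Category.assoc, Over.w q]) : Over.mk (Y.hom ≫ b) ⟶ Over.mk ((Cocycle.Z I).hom ≫ b))) (NilAction.toBase b h)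
      refine ⟨NilAction.ofBase b h', ?_⟩
      rw [Cocycle.comp_intBy, toUnit_unique (toUnit Y) (q ≫ toUnit _), Category.assoc, hgl,
        ← NilAction.ofBase_toBase b h, comp_ofBase, NilAction.ofBase_comp, NilAction.ofBase_comp,
        ← ofBase_inv, ← ofBase_mul, ← ofBase_mul, e])
  obtain ⟨g', hg'1, hg'⟩ := Cocycle.exists_conj_nilpotent (locally_bc hH₁ b) (J := I) ⟨2, hI⟩
    (Cocycle.intBy gl v₁) (φ ≫ v₂) (fun Y q h => (hA Y q h).symm)
  let g := g' * gl
  let c : Over.mk b ⟶ Over.mk ((𝟙_ (Over (Spec (CommRingCat.of B)))).hom ≫ b) :=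
    Over.homMk (𝟙 _) (by
      show 𝟙 _ ≫ 𝟙 _ ≫ b = b
      rw [Category.id_comp, Category.id_comp])
  let x : Over.mk b ⟶ G := c ≫ NilAction.toBase b g
  have hx : Sends i₁ i₂ (Over.mk b) x := by
    intro X' t h
    let Y : Over (Spec (CommRingCat.of B)) := Over.mk t.left
    let e : Over.mk (Y.hom ≫ b) ⟶ X' := Over.homMk (𝟙 _) (by
      show 𝟙 _ ≫ X'.hom = t.left ≫ b
      rw [Category.id_comp]; exact (Over.w t).symm)
    have : IsIso e := by
      have : IsIso e.left := inferInstanceAs (IsIso (𝟙 _))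
      have : IsIso ((Over.forget S).map e) := this
      exact isIso_of_reflects_iso _ (Over.forget S)
    have het : (e ≫ t) ≫ x = NilAction.toBase b (toUnit Y ≫ g) := by
      apply Over.OverMorphism.ext
      show ((𝟙 _ ≫ t.left) ≫ 𝟙 _ ≫ g.left ≫ pullback.fst G.hom b) =
        ((toUnit Y).left ≫ g.left) ≫ pullback.fst G.hom b
      rw [Category.id_comp, Category.id_comp, Category.assoc]
      congr 1
    let hb := NilAction.ofBase b (e ≫ h)
    refine ⟨inv e ≫ NilAction.toBase b (hb ≫ φ), ?_⟩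
    rw [← cancel_epi e]
    simp only [MonObj.comp_mul, GrpObj.comp_inv, ← Category.assoc, IsIso.hom_inv_id, Category.id_comp, het]
    have h2 := congrArg (toBaseHom b) (hg' Y hb)
    simp only [Cocycle.comp_intBy, ← Category.assoc, map_mul, map_inv] at h2
    simp only [toBaseHom, MonoidHom.mk'_apply, hb, v₁, v₂, NilAction.ofBase_comp, NilAction.toBase_ofBase] at h2
    rw [toBase_map] at h2
    rw [h2]
    have hmul : NilAction.toBase b (toUnit Y ≫ g) =
        NilAction.toBase b (toUnit Y ≫ g') * NilAction.toBase b (toUnit Y ≫ gl) := by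
      rw [← NilAction.toBase_mul, ← MonObj.comp_mul]
    rw [hmul]
    group
  obtain ⟨w, hw⟩ := (hW _ x).2 hx
  refine ⟨w.left, ?_, Over.w w⟩
  let zb : Over.mk ((Cocycle.Z I).hom ≫ b) ⟶ Over.mk b := Over.homMk (Cocycle.Z I).hom rfl
  have hzb : zb ≫ x = g₀s ≫ i := by
    rw [← NilAction.toBase_ofBase b (g₀s ≫ i)]
    change zb ≫ x = NilAction.toBase b g₀
    have e1 : toUnit (Cocycle.Z I) ≫ g = g₀ := by
      show _ ≫ (g' * gl) = _
      rw [MonObj.comp_mul, hg'1, hgl, _root_.one_mul]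
    rw [← e1]
    apply Over.OverMorphism.ext
    show (Cocycle.Z I).hom ≫ 𝟙 _ ≫ g.left ≫ pullback.fst G.hom b =
        ((toUnit (Cocycle.Z I)).left ≫ g.left) ≫ pullback.fst G.hom b
    rw [Category.id_comp, Category.assoc]
    congr 1
  exact congrArg (fun m => m.left) ((cancel_mono i).1 (by rw [Category.assoc, hw, hzb]) : zb ≫ w = g₀s)

end Groth.L25.Locus
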